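import Cfsg.Agent.H148.GG.GGTwo

/-!
# S4884, helper148: the number of constituents of the Gelfand-Graev character

* `gg1_univ` : (GG1) for `Y` itself;
* `gg2_card` : `∏ |F i| ≤ #{χ | [χ, Γ] ≠ 0}` if `Γ` is multiplicity free;
* `gg_card` : both together.
-/

set_option autoImplicit false
set_option linter.unusedSectionVars false

open scoped ComplexConjugate
open Cfsg

namespace Cfsg.Agent.H148.GG

open CoxeterSystem Cfsg.Agent.ChevalleyStructure.CoxeterGeom Cfsg.Agent.Tits.Roots Cfsg.Agent.Tits.Core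
  Cfsg.Agent.Tits.Exchange Cfsg.Agent.Nodes.Reps Cfsg.Agent.Nodes.BNOf Cfsg.Agent.Nodes.StabComb
  Cfsg.Agent.Nodes.Bruhat Cfsg.Agent.Nodes.OppDec Cfsg.Agent.Nodes.LeviDec Cfsg.Agent.H53.HC
  Cfsg.Agent.Characters Cfsg.Agent.H641.Gow Cfsg.Agent.OddOrderCharacters.Clifford

variable {I W Y : Type*} [Fintype I] [DecidableEq I] [Group W] [Group Y] {M : CoxeterMatrix I}
  {cs : CoxeterSystem M W} {A : I → I → ℤ} {h : IsCartan M A} {p : ℕ} {T : Subgroup Y} {n : I → Y}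
  {X : (I → ℤ) → Subgroup Y}

/-- **(GG1)** for the whole group -/
theorem gg1_univ [Finite W] [Fintype Y] (R : RGD cs h p T n X) (hG : GG cs h T X = ⊤) {φ : Y → Y} (hφ : Anti R φ)
    {F : I → Type*} [∀ i, Field (F i)] [∀ i, Finite (F i)] (D : Adj T X F) (hT : Odd (Nat.card T))
    [Fintype ↥(UJ cs h X Set.univ)] {ψ : ↥(UJ cs h X Set.univ) →* ℂˣ} (hψ : Nd cs h X Set.univ ψ) {χ : Y → ℂ}
    (hχ : IsIrrCharacter Y χ) :
    classInner (χ ∘ (UJ cs h X Set.univ).subtype) (fun u : ↥(UJ cs h X Set.univ) => (ψ u : ℂ)) = 0 ∨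
      classInner (χ ∘ (UJ cs h X Set.univ).subtype) (fun u : ↥(UJ cs h X Set.univ) => (ψ u : ℂ)) = 1 := by
  classical
  have : Fintype ↥(LJ cs h T X Set.univ) := Fintype.ofFinite _
  have hL : ∀ y : Y, y ∈ LJ cs h T X Set.univ := by
    intro y
    rw [LJ_univ, hG]
    trivial
  -- the isomorphism
  let f : ↥(LJ cs h T X Set.univ) →* Y := (LJ cs h T X Set.univ).subtype
  have hf : Function.Surjective f := fun y => ⟨⟨y, hL y⟩, rfl⟩
  have h1 : IsIrrCharacter ↥(LJ cs h T X Set.univ) (χ ∘ f) := Core.isIrr_comp f hf hχ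
  exact gg1 R hφ D hT Set.univ hψ h1

/-- the number of constituents of a multiplicity free induced character -/
theorem card_const [Fintype Y] (U : Subgroup Y) [Fintype ↥U] [Fintype (IrrCharacter Y)] (ψ : ↥U →* ℂˣ) (N : ℕ)
    (h0 : (N : ℝ) ≤ (classInner (indFun U fun u : ↥U => (ψ u : ℂ)) (indFun U fun u : ↥U => (ψ u : ℂ))).re)
    (hm : ∀ χ : Y → ℂ, IsIrrCharacter Y χ → classInner (χ ∘ U.subtype) (fun u : ↥U => (ψ u : ℂ)) = 0 ∨
      classInner (χ ∘ U.subtype) (fun u : ↥U => (ψ u : ℂ)) = 1)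
    [DecidablePred fun χ : IrrCharacter Y => classInner ((χ : Y → ℂ) ∘ U.subtype) (fun u : ↥U => (ψ u : ℂ)) ≠ 0] :
    N ≤ (Finset.univ.filter fun χ : IrrCharacter Y =>
      classInner ((χ : Y → ℂ) ∘ U.subtype) (fun u : ↥U => (ψ u : ℂ)) ≠ 0).card := by
  set Γ : Y → ℂ := indFun U fun u : ↥U => (ψ u : ℂ) with hΓ
  have hΓc : IsClassFunction Y Γ := isClassFunction_indFun U _
  have hc : ∀ χ : IrrCharacter Y, classInner Γ (χ : Y → ℂ) =
      conj (classInner ((χ : Y → ℂ) ∘ U.subtype) (fun u : ↥U => (ψ u : ℂ))) := by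
    intro χ
    rw [Core.classInner_conj_symm]
    exact classInner_indFun U (fun u : ↥U => (ψ u : ℂ)) (χ : Y → ℂ) (Core.isIrr_isClassFunction χ.2)
  have h1 : classInner Γ Γ = ∑ χ : IrrCharacter Y, classInner Γ (χ : Y → ℂ) * conj (classInner Γ (χ : Y → ℂ)) := by
    conv_lhs => rw [Core.classFunction_eq_sum hΓc]
    exact Core.classInner_sum_smul_sum_smul _ _
  have h2 : ∀ χ : IrrCharacter Y, classInner Γ (χ : Y → ℂ) * conj (classInner Γ (χ : Y → ℂ)) =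
      if classInner ((χ : Y → ℂ) ∘ U.subtype) (fun u : ↥U => (ψ u : ℂ)) ≠ 0 then 1 else 0 := by
    intro χ
    rw [hc]
    rcases hm χ χ.2 with h3 | h3
    · rw [if_neg (fun h => h h3), h3, map_zero, zero_mul]
    · rw [if_pos (by rw [h3]; exact one_ne_zero), h3, map_one, map_one, mul_one]
  rw [Finset.sum_congr rfl fun χ _ => h2 χ, ← Finset.sum_filter, Finset.sum_const, nsmul_eq_mul, mul_one] at h1
  rw [h1, Complex.natCast_re] at h0
  exact_mod_cast h0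

/-- **the number of constituents** -/
theorem gg2_card [Finite W] [Fintype Y] (R : RGD cs h p T n X) {F : I → Type*} [∀ i, Field (F i)] [∀ i, Finite (F i)]
    (D : Adj T X F) [Fintype ↥(UJ cs h X Set.univ)] [Fintype (IrrCharacter Y)]
    {ψ : ↥(UJ cs h X Set.univ) →* ℂˣ} (hψ : Nd cs h X Set.univ ψ)
    (hm : ∀ χ : Y → ℂ, IsIrrCharacter Y χ →
      classInner (χ ∘ (UJ cs h X Set.univ).subtype) (fun u : ↥(UJ cs h X Set.univ) => (ψ u : ℂ)) = 0 ∨
      classInner (χ ∘ (UJ cs h X Set.univ).subtype) (fun u : ↥(UJ cs h X Set.univ) => (ψ u : ℂ)) = 1)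
    [DecidablePred fun χ : IrrCharacter Y =>
      classInner ((χ : Y → ℂ) ∘ (UJ cs h X Set.univ).subtype) (fun u : ↥(UJ cs h X Set.univ) => (ψ u : ℂ)) ≠ 0] :
    ∏ i, Nat.card (F i) ≤ (Finset.univ.filter fun χ : IrrCharacter Y =>
      classInner ((χ : Y → ℂ) ∘ (UJ cs h X Set.univ).subtype) (fun u : ↥(UJ cs h X Set.univ) => (ψ u : ℂ)) ≠ 0).card :=
  card_const (UJ cs h X Set.univ) ψ _ (gg2 R D hψ) hm

/-- **(GG1) and (GG2)** -/
theorem gg_card [Finite W] [Fintype Y] (R : RGD cs h p T n X) (hG : GG cs h T X = ⊤) {φ : Y → Y} (hφ : Anti R φ)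
    {F : I → Type*} [∀ i, Field (F i)] [∀ i, Finite (F i)] (D : Adj T X F) (hT : Odd (Nat.card T))
    [Fintype ↥(UJ cs h X Set.univ)] [Fintype (IrrCharacter Y)] {ψ : ↥(UJ cs h X Set.univ) →* ℂˣ}
    (hψ : Nd cs h X Set.univ ψ)
    [DecidablePred fun χ : IrrCharacter Y =>
      classInner ((χ : Y → ℂ) ∘ (UJ cs h X Set.univ).subtype) (fun u : ↥(UJ cs h X Set.univ) => (ψ u : ℂ)) ≠ 0] :
    ∏ i, Nat.card (F i) ≤ (Finset.univ.filter fun χ : IrrCharacter Y =>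
      classInner ((χ : Y → ℂ) ∘ (UJ cs h X Set.univ).subtype) (fun u : ↥(UJ cs h X Set.univ) => (ψ u : ℂ)) ≠ 0).card :=
  gg2_card R D hψ fun _ hχ => gg1_univ R hG hφ D hT hψ hχ

end Cfsg.Agent.H148.GG
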