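import Cfsg.Agent.H641.Gow.Rgd

/-!
# S4884, helper148: coordinates on the simple root groups of an adjoint group

* `Adj T X F` : the linear characters of the root group `X (sr i)` factor through a surjection onto the field `F i`, the torus
  acts on it by scalars, and `T → ∏ (F i)ˣ` is surjective;
* `Adj.trc` : `T` is transitive on the families of nontrivial linear characters of the simple root groups;
* `Adj.srg` : an element of `T` fixing a nontrivial linear character of `X (sr i)` centralises `X (sr i)`.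
-/

set_option autoImplicit false
set_option linter.unusedSectionVars false

namespace Cfsg.Agent.H148.GG

open Cfsg.Agent.Tits.Roots

/-! ### additive characters of finite fields -/

theorem exists_scalar {F : Type*} [Field F] [Finite F] {e e' : AddChar F ℂ} (he : e ≠ 1) (he' : e' ≠ 1) :
    ∃ c : Fˣ, ∀ s, e' s = e (c * s) := by
  classical
  have := Fintype.ofFinite F
  have hp : e.IsPrimitive := AddChar.IsPrimitive.of_ne_one he
  have hinj : Function.Injective e.mulShift := AddChar.to_mulShift_inj_of_isPrimitive hp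
  have hsurj : Function.Surjective e.mulShift :=
    ((Fintype.bijective_iff_injective_and_card _).2 ⟨hinj, (AddChar.card_eq (α := F)).symm⟩).2
  obtain ⟨c, hc⟩ := hsurj e'
  have hc0 : c ≠ 0 := by
    rintro rfl
    apply he'
    rw [← hc, AddChar.mulShift_zero]
  exact ⟨Units.mk0 c hc0, fun s => by rw [← hc, AddChar.mulShift_apply]; rfl⟩

theorem scalar_eq_one {F : Type*} [Field F] [Finite F] {e : AddChar F ℂ} (he : e ≠ 1) {c : F}
    (hc : ∀ s, e (c * s) = e s) : c = 1 := by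
  have := Fintype.ofFinite F
  have hp : e.IsPrimitive := AddChar.IsPrimitive.of_ne_one he
  refine AddChar.to_mulShift_inj_of_isPrimitive hp ?_
  ext s
  rw [AddChar.mulShift_apply, AddChar.mulShift_apply, hc, one_mul]

variable {I Y : Type*} [DecidableEq I] [Group Y] {T : Subgroup Y} {X : (I → ℤ) → Subgroup Y}

/-- coordinates on the simple root groups -/
structure Adj (T : Subgroup Y) (X : (I → ℤ) → Subgroup Y) (F : I → Type*) [∀ i, Field (F i)] where
  x : ∀ i, ↥(X (sr i)) →* Multiplicative (F i)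
  a : ∀ i, ↥T →* (F i)ˣ
  surjX : ∀ i, Function.Surjective (x i)
  act : ∀ (i : I) (t : ↥T) (u : ↥(X (sr i))) (hu : (t : Y) * (u : Y) * (t : Y)⁻¹ ∈ X (sr i)),
    Multiplicative.toAdd (x i ⟨(t : Y) * (u : Y) * (t : Y)⁻¹, hu⟩) = (a i t : F i) * Multiplicative.toAdd (x i u)
  lin : ∀ (i : I) (ψ : ↥(X (sr i)) →* ℂˣ) (u : ↥(X (sr i))), x i u = 1 → ψ u = 1
  surjT : ∀ c : ∀ i, (F i)ˣ, ∃ t : ↥T, ∀ i, a i t = c i
  ker : ∀ (i : I) (t : ↥T), a i t = 1 → ∀ u ∈ X (sr i), (t : Y) * u = u * (t : Y)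

/-- `T` is transitive on the families of nontrivial linear characters of the simple root groups -/
def Trc (T : Subgroup Y) (X : (I → ℤ) → Subgroup Y) : Prop :=
  ∀ ψ ψ' : (i : I) → (↥(X (sr i)) →* ℂˣ), (∀ i, ψ i ≠ 1) → (∀ i, ψ' i ≠ 1) → ∃ t ∈ T, ∀ (i : I) (u : Y)
    (hu : u ∈ X (sr i)) (hu' : t * u * t⁻¹ ∈ X (sr i)), ψ' i ⟨u, hu⟩ = ψ i ⟨t * u * t⁻¹, hu'⟩

/-- an element of `T` fixing a nontrivial linear character of `X (sr i)` centralises `X (sr i)` -/
def Srg (T : Subgroup Y) (X : (I → ℤ) → Subgroup Y) : Prop :=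
  ∀ (i : I) (ψ : ↥(X (sr i)) →* ℂˣ), ψ ≠ 1 → ∀ z ∈ T, (∀ (u : Y) (hu : u ∈ X (sr i)) (hu' : z * u * z⁻¹ ∈ X (sr i)),
    ψ ⟨z * u * z⁻¹, hu'⟩ = ψ ⟨u, hu⟩) → ∀ u ∈ X (sr i), z * u = u * z

namespace Adj

variable {F : I → Type*} [∀ i, Field (F i)] (D : Adj T X F)

include D

/-- the additive character given by a linear character of a simple root group -/
theorem exists_char (i : I) (ψ : ↥(X (sr i)) →* ℂˣ) :
    ∃ e : AddChar (F i) ℂ, (ψ ≠ 1 → e ≠ 1) ∧ ∀ u, (ψ u : ℂ) = e (Multiplicative.toAdd (D.x i u)) := by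
  classical
  let g : Multiplicative (F i) → ↥(X (sr i)) := Function.surjInv (D.surjX i)
  have hg : ∀ s, D.x i (g s) = s := Function.surjInv_eq (D.surjX i)
  have key : ∀ u v, D.x i u = D.x i v → ψ u = ψ v := by
    intro u v huv
    have h1 := D.lin i ψ (u * v⁻¹) (by rw [map_mul, huv, map_inv, mul_inv_cancel])
    rw [map_mul, map_inv] at h1
    exact mul_inv_eq_one.1 h1
  let e : AddChar (F i) ℂ :=
    { toFun := fun s => (ψ (g (Multiplicative.ofAdd s)) : ℂ)
      map_zero_eq_one' := by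
        rw [key (g (Multiplicative.ofAdd 0)) 1 (by rw [hg, map_one]; rfl), map_one]; rfl
      map_add_eq_mul' := fun s t => by
        rw [key (g (Multiplicative.ofAdd (s + t))) (g (Multiplicative.ofAdd s) * g (Multiplicative.ofAdd t))
          (by rw [map_mul, hg, hg, hg]; rfl), map_mul]; rfl }
  have he : ∀ u, (ψ u : ℂ) = e (Multiplicative.toAdd (D.x i u)) := by
    intro u
    change (ψ u : ℂ) = (ψ (g (D.x i u)) : ℂ)
    rw [key u (g (D.x i u)) (hg _).symm]
  refine ⟨e, fun hne h1 => hne ?_, he⟩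
  ext u
  rw [he, h1]
  rfl

/-- the same for a set of nodes -/
theorem trcJ [∀ i, Finite (F i)] (J : Set I) (ψ ψ' : (i : I) → (↥(X (sr i)) →* ℂˣ)) (h1 : ∀ i ∈ J, ψ i ≠ 1)
    (h2 : ∀ i ∈ J, ψ' i ≠ 1) : ∃ t ∈ T, ∀ i ∈ J, ∀ (u : Y) (hu : u ∈ X (sr i)) (hu' : t * u * t⁻¹ ∈ X (sr i)),
      ψ' i ⟨u, hu⟩ = ψ i ⟨t * u * t⁻¹, hu'⟩ := by
  classical
  choose e he1 he2 using fun i => D.exists_char i (ψ i)
  choose e' he1' he2' using fun i => D.exists_char i (ψ' i)
  have hex : ∀ i, ∃ c : (F i)ˣ, i ∈ J → ∀ s, e' i s = e i (c * s) := by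
    intro i
    by_cases hi : i ∈ J
    · obtain ⟨c, hc⟩ := exists_scalar (he1 i (h1 i hi)) (he1' i (h2 i hi))
      exact ⟨c, fun _ => hc⟩
    · exact ⟨1, fun h => absurd h hi⟩
  choose c hc using hex
  obtain ⟨t, ht⟩ := D.surjT c
  refine ⟨t, t.2, fun i hi u hu hu' => ?_⟩
  apply Units.ext
  rw [he2', he2, D.act i t ⟨u, hu⟩ hu', hc i hi, ht]

theorem trc [∀ i, Finite (F i)] : Trc T X := by
  intro ψ ψ' h1 h2
  choose e he1 he2 using fun i => D.exists_char i (ψ i)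
  choose e' he1' he2' using fun i => D.exists_char i (ψ' i)
  choose c hc using fun i => exists_scalar (he1 i (h1 i)) (he1' i (h2 i))
  obtain ⟨t, ht⟩ := D.surjT c
  refine ⟨t, t.2, fun i u hu hu' => ?_⟩
  apply Units.ext
  rw [he2', he2, D.act i t ⟨u, hu⟩ hu', hc, ht]

theorem srg [∀ i, Finite (F i)] (hT : ∀ (i : I) (t u : Y), t ∈ T → u ∈ X (sr i) → t * u * t⁻¹ ∈ X (sr i)) : Srg T X := by
  intro i ψ hψ z hz hfix u hu
  obtain ⟨e, he1, he2⟩ := D.exists_char i ψ
  refine D.ker i ⟨z, hz⟩ ?_ u hu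
  apply Units.ext
  refine scalar_eq_one (he1 hψ) fun s => ?_
  obtain ⟨v, hv⟩ := D.surjX i (Multiplicative.ofAdd s)
  have h1 := hfix v v.2 (hT i z v hz v.2)
  have h2 : ((ψ ⟨z * v * z⁻¹, hT i z v hz v.2⟩ : ℂˣ) : ℂ) = ((ψ ⟨v, v.2⟩ : ℂˣ) : ℂ) := by rw [h1]
  rw [he2, he2, D.act i ⟨z, hz⟩ v (hT i z v hz v.2)] at h2
  have h3 : Multiplicative.toAdd (D.x i v) = s := by rw [hv]; rfl
  rw [h3] at h2
  exact h2

end Adj

end Cfsg.Agent.H148.GG
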