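import Cfsg.Agent.H148.GG.Comb
import Cfsg.Agent.H148.GG.Adj
import Cfsg.Agent.H466.T3.Gelfand

/-!
# S4884, helper148: the Gelfand-Graev characters of the Levi subgroups are multiplicity free

`R : RGD cs h p T n X`, `J` a set of nodes, `ψ` a nondegenerate linear character of `U_J`.

* `Nd` : nondegenerate characters; `Nd.exists_conj` : they are conjugate under `T`;
* `Anti` : an anti-automorphism `φ` of order two with `φ (X z) = X (-z)`, `φ = 1` on `T`;
* `mult_one_of_fix` : multiplicity one from an anti-automorphism preserving `(U_J, ψ)` which fixes the compatible elements.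
-/

set_option autoImplicit false
set_option linter.unusedSectionVars false

open scoped ComplexConjugate
open Cfsg

namespace Cfsg.Agent.H148.GG

open CoxeterSystem Cfsg.Agent.ChevalleyStructure.CoxeterGeom Cfsg.Agent.Tits.Roots Cfsg.Agent.Tits.Core
  Cfsg.Agent.Tits.Exchange Cfsg.Agent.Nodes.Reps Cfsg.Agent.Nodes.BNOf Cfsg.Agent.Nodes.StabComb
  Cfsg.Agent.Nodes.Bruhat Cfsg.Agent.Nodes.OppDec Cfsg.Agent.Nodes.LeviDec Cfsg.Agent.H53.HC
  Cfsg.Agent.Characters.Core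

variable {I W Y : Type*} [Fintype I] [DecidableEq I] [Group W] [Group Y] {M : CoxeterMatrix I}
  {cs : CoxeterSystem M W} {A : I → I → ℤ} {h : IsCartan M A} {p : ℕ} {T : Subgroup Y} {n : I → Y}
  {X : (I → ℤ) → Subgroup Y}

/-! ### nondegenerate characters -/

/-- nondegenerate linear characters of `U_J` -/
structure Nd (cs : CoxeterSystem M W) (h : IsCartan M A) (X : (I → ℤ) → Subgroup Y) (J : Set I)
    (ψ : ↥(UJ cs h X J) →* ℂˣ) : Prop where
  triv : ∀ x ∈ PosJ cs h J, (∀ i, x ≠ sr i) → ∀ (u : Y) (hu' : u ∈ UJ cs h X J), u ∈ X x → ψ ⟨u, hu'⟩ = 1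
  ne : ∀ i ∈ J, ∃ (u : Y) (hu' : u ∈ UJ cs h X J), u ∈ X (sr i) ∧ ψ ⟨u, hu'⟩ ≠ 1

theorem X_le_UJ {J : Set I} {x : I → ℤ} (hx : x ∈ PosJ cs h J) : X x ≤ UJ cs h X J := RGD.le_Sup hx

theorem sr_mem_of_PosJ {J : Set I} {i : I} (hi : (sr i : I → ℤ) ∈ PosJ cs h J) : i ∈ J := by
  by_contra hcon
  have := hi.2.2 i hcon
  rw [sr_self] at this
  exact one_ne_zero this

/-- two homomorphisms on `U_J` which agree on the root groups -/
theorem hom_ext {J : Set I} {ψ ψ' : ↥(UJ cs h X J) →* ℂˣ}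
    (he : ∀ x ∈ PosJ cs h J, ∀ (u : Y) (hu' : u ∈ UJ cs h X J), u ∈ X x → ψ ⟨u, hu'⟩ = ψ' ⟨u, hu'⟩) : ψ = ψ' := by
  let K : Subgroup Y :=
    { carrier := {u | ∀ hu : u ∈ UJ cs h X J, u ∈ UJ cs h X J ∧ ψ ⟨u, hu⟩ = ψ' ⟨u, hu⟩} ∩ (UJ cs h X J : Set Y)
      mul_mem' := by
        rintro a b ⟨ha, ha'⟩ ⟨hb, hb'⟩
        refine ⟨fun hu => ⟨hu, ?_⟩, mul_mem ha' hb'⟩
        have e : (⟨a * b, hu⟩ : ↥(UJ cs h X J)) = ⟨a, ha'⟩ * ⟨b, hb'⟩ := rfl
        rw [e, map_mul, map_mul, (ha ha').2, (hb hb').2]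
      one_mem' := ⟨fun hu => ⟨hu, by
        have e : (⟨1, hu⟩ : ↥(UJ cs h X J)) = 1 := rfl
        rw [e, map_one, map_one]⟩, one_mem _⟩
      inv_mem' := by
        rintro a ⟨ha, ha'⟩
        refine ⟨fun hu => ⟨hu, ?_⟩, inv_mem ha'⟩
        have e : (⟨a⁻¹, hu⟩ : ↥(UJ cs h X J)) = (⟨a, ha'⟩)⁻¹ := rfl
        rw [e, map_inv, map_inv, (ha ha').2] }
  have hK : UJ cs h X J ≤ K := by
    refine RGD.Sup_le fun x hx u hu => ?_
    exact ⟨fun hu' => ⟨hu', he x hx u hu' hu⟩, X_le_UJ hx hu⟩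
  ext u
  exact congrArg _ ((hK u.2).1 u.2).2

variable (R : RGD cs h p T n X)

include R

theorem conjT_UJ {J : Set I} {t u : Y} (ht : t ∈ T) (hu : u ∈ UJ cs h X J) : t * u * t⁻¹ ∈ UJ cs h X J := by
  have hT : T ≤ Subgroup.normalizer (UJ cs h X J : Set Y) := R.T_le_normalizer fun _ hx => hx.1
  exact (Subgroup.mem_normalizer_iff.1 (hT ht) u).1 hu

theorem conjT_X {x : I → ℤ} (hx : IsRoot cs h x) {t u : Y} (ht : t ∈ T) (hu : u ∈ X x) : t * u * t⁻¹ ∈ X x := by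
  have := R.tor x hx t ht
  rw [← this]
  exact conj_mem_cj.2 hu

/-- the conjugate of a character of `U_J` by an element of `T` -/
def cjT {J : Set I} (t : Y) (ht : t ∈ T) (ψ : ↥(UJ cs h X J) →* ℂˣ) : ↥(UJ cs h X J) →* ℂˣ where
  toFun u := ψ ⟨t * u * t⁻¹, conjT_UJ R ht u.2⟩
  map_one' := by
    have e : (⟨t * ((1 : ↥(UJ cs h X J)) : Y) * t⁻¹, conjT_UJ R ht (1 : ↥(UJ cs h X J)).2⟩ : ↥(UJ cs h X J)) = 1 := by
      apply Subtype.ext
      simp
    rw [e, map_one]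
  map_mul' u v := by
    rw [← map_mul]
    congr 1
    apply Subtype.ext
    simp only [Subgroup.coe_mul]
    group

/-- **the nondegenerate characters of `U_J` are conjugate under `T`** -/
theorem Nd.exists_conj {F : I → Type*} [∀ i, Field (F i)] [∀ i, Finite (F i)] (D : Adj T X F) {J : Set I}
    {ψ ψ' : ↥(UJ cs h X J) →* ℂˣ} (h1 : Nd cs h X J ψ) (h2 : Nd cs h X J ψ') :
    ∃ (t : Y) (ht : t ∈ T), ∀ (u : Y) (hu : u ∈ UJ cs h X J), ψ' ⟨u, hu⟩ = ψ ⟨t * u * t⁻¹, conjT_UJ R ht hu⟩ := by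
  classical
  let r : (↥(UJ cs h X J) →* ℂˣ) → (i : I) → (↥(X (sr i)) →* ℂˣ) := fun χ i =>
    if hi : i ∈ J then χ.comp (Subgroup.inclusion (X_le_UJ (sr_mem_PosJ hi))) else 1
  have hr : ∀ χ, Nd cs h X J χ → ∀ i ∈ J, r χ i ≠ 1 := by
    intro χ hχ i hi h3
    obtain ⟨u, hu', hu, hne⟩ := hχ.ne i hi
    apply hne
    have h4 := DFunLike.congr_fun h3 (⟨u, hu⟩ : ↥(X (sr i)))
    simp only [r, dif_pos hi] at h4
    exact h4
  obtain ⟨t, ht, hc⟩ := D.trcJ J (r ψ) (r ψ') (hr ψ h1) (hr ψ' h2)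
  have key : ψ' = cjT R t ht ψ := by
    refine hom_ext fun x hx u hu' hu => ?_
    have hcx : t * u * t⁻¹ ∈ X x := conjT_X R hx.1 ht hu
    by_cases hxs : ∃ i, x = sr i
    · obtain ⟨i, rfl⟩ := hxs
      have hi := sr_mem_of_PosJ hx
      have h3 := hc i hi u hu hcx
      simp only [r, dif_pos hi] at h3
      exact h3
    · push Not at hxs
      rw [h2.triv x hx hxs u hu' hu]
      exact (h1.triv x hx hxs (t * u * t⁻¹) (conjT_UJ R ht hu') hcx).symm
  refine ⟨t, ht, fun u hu => ?_⟩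
  rw [key]
  rfl

/-! ### elements of the torus which centralise simple root groups -/

section Comm

variable [Finite W]

theorem comm_neg {z : Y} (hz : z ∈ T) {i : I} (hc : ∀ u ∈ X (sr i), z * u = u * z) (u : Y) (hu : u ∈ X (-sr i)) :
    z * u = u * z := by
  by_cases hu1 : u = 1
  · rw [hu1, mul_one, one_mul]
  obtain ⟨a, ha, t, ht, b, hb, e⟩ := R.rk1 i u hu hu1
  have hroot : IsRoot cs h (-sr i) := (isRoot_sr cs h i).neg
  have hn : n i ∈ Subgroup.normalizer (T : Set Y) := R.nsys.norm i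
  set w := z * u * z⁻¹ * u⁻¹ with hw
  have hwX : w ∈ X (-sr i) := mul_mem (conjT_X R hroot hz hu) (inv_mem hu)
  have hwB : w ∈ RGD.B cs h T X := by
    have ha' := RGD.X_le_B (T := T) (isRoot_sr cs h i) (sr_nonneg i) ha
    have e2 : w = a * (z * (t * (n i * z⁻¹ * (n i)⁻¹) * t⁻¹)) * a⁻¹ := by
      have e3 : z * u * z⁻¹ = a * (z * t * n i * z⁻¹) * b := by
        rw [e]
        calc z * (a * t * n i * b) * z⁻¹ = (z * a) * t * n i * (b * z⁻¹) := by group
          _ = (a * z) * t * n i * (z⁻¹ * b) := by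
            rw [hc a ha]
            have : b * z⁻¹ = z⁻¹ * b := by
              have := hc b hb
              rw [eq_inv_mul_iff_mul_eq, ← mul_assoc, this]; group
            rw [this]
          _ = _ := by group
      rw [hw, e3, e]; group
    rw [e2]
    refine mul_mem (mul_mem ha' (RGD.T_le_B (mul_mem hz (mul_mem (mul_mem ht ?_) (inv_mem ht))))) (inv_mem ha')
    exact (Subgroup.mem_normalizer_iff.1 hn z⁻¹).1 (inv_mem hz)
  have hv : (n i)⁻¹ * w * n i ∈ X (sr i) := by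
    have := R.conj_mem' (rp_simple cs R.nsys i) hroot hwX
    rwa [cs.inv_simple, map_neg, rep_simple_sr, neg_neg] at this
  have h1 := eq_one_of_conj_mem_B R hv (rp_simple cs R.nsys i) (by
    have e3 : n i * ((n i)⁻¹ * w * n i) * (n i)⁻¹ = w := by group
    rw [e3]; exact hwB)
  have h2 : w = 1 := by
    have e3 : w = n i * ((n i)⁻¹ * w * n i) * (n i)⁻¹ := by group
    rw [e3, h1]; group
  rw [hw, mul_inv_eq_one, mul_inv_eq_iff_eq_mul] at h2
  exact h2

theorem comm_n {z : Y} (hz : z ∈ T) (hT : ∀ s ∈ T, ∀ t ∈ T, s * t = t * s) {i : I}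
    (hc : ∀ u ∈ X (sr i), z * u = u * z) : z * n i = n i * z := by
  have hneg := comm_neg R hz hc
  have hroot : IsRoot cs h (-sr i) := (isRoot_sr cs h i).neg
  obtain ⟨u, hu1⟩ := Subgroup.ne_bot_iff_exists_ne_one.1 (X_ne_bot R hroot)
  have hu1' : (u : Y) ≠ 1 := fun e => hu1 (Subtype.ext e)
  obtain ⟨a, ha, t, ht, b, hb, e⟩ := R.rk1 i u u.2 hu1'
  have e2 : n i = t⁻¹ * a⁻¹ * u * b⁻¹ := by rw [e]; group
  have c1 : Commute z t⁻¹ := (show Commute z t from hT z hz t ht).inv_right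
  have c2 : Commute z a⁻¹ := (show Commute z a from hc a ha).inv_right
  have c3 : Commute z u := hneg u u.2
  have c4 : Commute z b⁻¹ := (show Commute z b from hc b hb).inv_right
  rw [e2]
  exact ((c1.mul_right c2).mul_right c3).mul_right c4

theorem comm_rp {z : Y} (hz : z ∈ T) (hT : ∀ s ∈ T, ∀ t ∈ T, s * t = t * s) {K : Set I}
    (hc : ∀ k ∈ K, ∀ u ∈ X (sr k), z * u = u * z) {v : W} (hv : v ∈ WJ cs K) {g : Y} (hg : Rp cs R.nsys v g) :
    z * g = g * z := by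
  obtain ⟨ω, hω, rfl⟩ := exists_word_of_mem_WJ cs hv
  clear hv
  induction ω generalizing g with
  | nil =>
    rw [wordProd_nil] at hg
    exact hT z hz g hg.mem_of_one
  | cons i ω ih =>
    have hω' : ∀ j ∈ ω, j ∈ K := fun j hj => hω j (by simp [hj])
    rw [wordProd_cons] at hg
    have h1 : Rp cs R.nsys (cs.wordProd ω) ((n i)⁻¹ * g) := by
      have := (rp_simple cs R.nsys i).inv.mul hg
      rwa [inv_mul_cancel_left] at this
    have h2 := ih hω' h1
    have h3 : g = n i * ((n i)⁻¹ * g) := by group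
    have c1 : Commute z (n i) := comm_n R hz hT (hc i (hω i (by simp)))
    have c2 : Commute z ((n i)⁻¹ * g) := h2
    rw [h3]
    exact c1.mul_right c2

end Comm

end Cfsg.Agent.H148.GG
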