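import Cfsg.Agent.H641.Gow.Rgd

/-!
# S4884, helper148: the elements of `W_J` which map every simple root to a simple root or to a negative root

* `Comp cs h J w` : `w⁻¹` maps every simple root of `J` to a simple root of `J` or to a negative root;
* `Comp.dec` : then `w = w_J v` with `v ∈ W_K`, `v² = 1`, and `w` maps the simple roots of `K` to simple roots.
-/

set_option autoImplicit false
set_option linter.unusedSectionVars false

namespace Cfsg.Agent.H148.GG

open CoxeterSystem Cfsg.Agent.ChevalleyStructure.CoxeterGeom Cfsg.Agent.Tits.Roots Cfsg.Agent.Tits.Core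
  Cfsg.Agent.Tits.Exchange Cfsg.Agent.Nodes.Reps Cfsg.Agent.Nodes.BNOf Cfsg.Agent.Nodes.StabComb
  Cfsg.Agent.H53.HC

variable {I W : Type*} [Fintype I] [DecidableEq I] [Group W] {M : CoxeterMatrix I}
  {cs : CoxeterSystem M W} {A : I → I → ℤ} {h : IsCartan M A}

theorem sr_inj {i k : I} (hik : (sr i : I → ℤ) = sr k) : i = k := by
  by_contra hne
  have := congrFun hik i
  rw [sr_self, sr_ne hne] at this
  exact one_ne_zero this

/-- a simple root which is a nonnegative combination of vectors, each of them not positive or simple -/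
theorem exists_of_sum {J : Set I} {γ : I → I → ℤ} {β : I → ℤ} (h0 : 0 ≤ β) (hJ : ∀ i, i ∉ J → β i = 0)
    (hγ : ∀ i ∈ J, γ i ≤ 0 ∨ ∃ k ∈ J, γ i = sr k) {k : I} (he : sr k = ∑ i, β i • γ i) :
    ∃ i ∈ J, γ i = sr k := by
  have h1 := congrFun he k
  rw [sr_self, Finset.sum_apply] at h1
  have h2 : ∃ i ∈ Finset.univ, 0 < (β i • γ i) k := by
    by_contra hcon
    push Not at hcon
    have := Finset.sum_nonpos hcon
    omega
  obtain ⟨i, -, hi⟩ := h2
  rw [Pi.smul_apply, smul_eq_mul] at hi
  have hiJ : i ∈ J := by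
    by_contra hiJ
    rw [hJ i hiJ, zero_mul] at hi
    exact lt_irrefl _ hi
  rcases hγ i hiJ with h3 | ⟨l, -, h3⟩
  · exfalso
    have h4 : β i * γ i k ≤ 0 := mul_nonpos_of_nonneg_of_nonpos (h0 i) (h3 k)
    omega
  · refine ⟨i, hiJ, ?_⟩
    rw [h3] at hi ⊢
    by_cases hlk : k = l
    · rw [hlk]
    · rw [sr_ne hlk, mul_zero] at hi
      exact absurd hi (lt_irrefl _)

theorem rep_sum (w : W) (x : I → ℤ) : rep cs h w x = ∑ i, x i • rep cs h w (sr i) := by
  conv_lhs => rw [eq_sum_sr x, map_sum]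
  exact Finset.sum_congr rfl fun i _ => map_smul _ _ _

/-- the elements `w ∈ W_J` whose inverse maps every simple root of `J` to a negative root or to a simple root -/
structure Comp (cs : CoxeterSystem M W) {A : I → I → ℤ} (h : IsCartan M A) (J : Set I) (w : W) : Prop where
  mem : w ∈ WJ cs J
  simple : ∀ i ∈ J, rep cs h w⁻¹ (sr i) ≤ 0 ∨ ∃ k ∈ J, rep cs h w⁻¹ (sr i) = sr k

/-- `w` maps positive simple roots to simple roots -/
theorem Comp.fwd {J : Set I} {w : W} (hw : Comp cs h J w) {k : I} (hk : k ∈ J) (h0 : 0 ≤ rep cs h w (sr k)) :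
    ∃ i ∈ J, rep cs h w (sr k) = sr i := by
  have hJ : ∀ i, i ∉ J → rep cs h w (sr k) i = 0 := by
    intro i hi
    rw [Cfsg.Agent.Tits.RootComb.rep_apply_of_mem cs h hw.mem (sr k) hi, sr_ne (by rintro rfl; exact hi hk)]
  have he : sr k = ∑ i, (rep cs h w (sr k)) i • rep cs h w⁻¹ (sr i) := by
    rw [← rep_sum, rep_inv_apply]
  obtain ⟨i, hi, e⟩ := exists_of_sum h0 hJ hw.simple he
  exact ⟨i, hi, by rw [← e, rep_apply_inv]⟩

section Fin

variable [Finite W]

/-- the longest element of `W_J` maps simple roots of `J` to negatives of simple roots of `J` -/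
theorem longest_simple {J : Set I} {w : W} (hw : IsLongest cs J w) {k : I} (hk : k ∈ J) :
    ∃ i ∈ J, rep cs h w (sr k) = -sr i := by
  have hinv := IsLongest.inv_eq hw
  have hneg : ∀ i ∈ J, rep cs h w (sr i) ≤ 0 := fun i hi => rep_longest_nonpos hw (sr_mem_PosJ hi)
  set β := -rep cs h w (sr k) with hβ
  have h0 : 0 ≤ β := neg_nonneg.2 (hneg k hk)
  have hJ : ∀ i, i ∉ J → β i = 0 := by
    intro i hi
    rw [hβ, Pi.neg_apply, Cfsg.Agent.Tits.RootComb.rep_apply_of_mem cs h hw.1 (sr k) hi, sr_ne (by rintro rfl; exact hi hk), neg_zero]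
  have he : sr k = ∑ i, β i • (-rep cs h w (sr i)) := by
    have h1 : rep cs h w β = -sr k := by
      rw [hβ, map_neg, ← rep_mul_apply, IsLongest.mul_self hw, map_one, Module.End.one_apply]
    rw [rep_sum] at h1
    have h2 : sr k = -∑ i, β i • rep cs h w (sr i) := by rw [h1, neg_neg]
    rw [h2, ← Finset.sum_neg_distrib]
    exact Finset.sum_congr rfl fun i _ => (smul_neg _ _).symm
  -- heights
  have hht : ∀ i, i ∈ J → 1 ≤ ht (-rep cs h w (sr i)) := fun i hi =>
    sum_pos (neg_nonneg.2 (hneg i hi)) (((isRoot_sr cs h i).act w).neg.ne_zero)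
  have e1 : (1 : ℤ) = ∑ i, β i * ht (-rep cs h w (sr i)) := by
    have h1 := congrArg ht he
    have h2 : ht (sr k : I → ℤ) = 1 := by
      unfold ht
      rw [Finset.sum_eq_single k (fun i _ hi => sr_ne hi) (fun h => absurd (Finset.mem_univ k) h), sr_self]
    rw [h2] at h1
    rw [h1]
    unfold ht
    simp only [Finset.sum_apply, Pi.smul_apply, smul_eq_mul]
    rw [Finset.sum_comm]
    exact Finset.sum_congr rfl fun i _ => (Finset.mul_sum _ _ _).symm
  have e2 : ∑ i, β i ≤ 1 := by
    rw [e1]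
    refine Finset.sum_le_sum fun i _ => ?_
    by_cases hi : i ∈ J
    · exact le_mul_of_one_le_right (h0 i) (hht i hi)
    · rw [hJ i hi, zero_mul]
  have hβ0 : β ≠ 0 := ((isRoot_sr cs h k).act w).neg.ne_zero
  obtain ⟨i, hi⟩ : ∃ i, 0 < β i := by
    by_contra hcon
    push Not at hcon
    exact hβ0 (funext fun i => le_antisymm (hcon i) (h0 i))
  have hiJ : i ∈ J := by
    by_contra h1
    rw [hJ i h1] at hi
    exact lt_irrefl _ hi
  refine ⟨i, hiJ, ?_⟩
  have e3 : β = sr i := by
    funext l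
    have h3 : β i + ∑ l ∈ Finset.univ.erase i, β l ≤ 1 := by
      rw [Finset.add_sum_erase _ _ (Finset.mem_univ i)]; exact e2
    have h4 : 0 ≤ ∑ l ∈ Finset.univ.erase i, β l := Finset.sum_nonneg fun l _ => h0 l
    by_cases hl : l = i
    · rw [hl, sr_self]; omega
    · rw [sr_ne hl]
      have h5 : β l ≤ ∑ l ∈ Finset.univ.erase i, β l :=
        Finset.single_le_sum (fun l _ => h0 l) (Finset.mem_erase.2 ⟨hl, Finset.mem_univ l⟩)
      have := h0 l
      simp only [Pi.zero_apply] at this
      omega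
  rw [← e3, hβ, neg_neg]

/-- **the structure of the compatible elements** -/
theorem Comp.dec {J : Set I} {w wj : W} (hw : Comp cs h J w) (hwj : IsLongest cs J wj) :
    ∃ K : Set I, ∃ v ∈ WJ cs K, K ⊆ J ∧ v * v = 1 ∧ w = wj * v ∧ (∀ k ∈ K, ∃ i ∈ J, rep cs h w (sr k) = sr i) ∧
      (∀ k ∈ J, k ∉ K → rep cs h w (sr k) ≤ 0) ∧ (∀ k ∈ K, ∃ k' ∈ K, rep cs h v (sr k) = -sr k') := by
  set K : Set I := {k | k ∈ J ∧ 0 ≤ rep cs h w (sr k)} with hK
  set v := wj * w with hv
  have hvJ : v ∈ WJ cs J := mul_mem hwj.1 hw.mem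
  have hjj : wj * wj = 1 := IsLongest.mul_self hwj
  have hwv : w = wj * v := by rw [hv, ← mul_assoc, hjj, one_mul]
  -- `v` on the simple roots of `K`
  have hKs : ∀ k ∈ K, ∃ i ∈ J, rep cs h w (sr k) = sr i := fun k hk => hw.fwd hk.1 hk.2
  have hvK : ∀ k ∈ K, ∃ i ∈ J, rep cs h v (sr k) = -sr i := by
    intro k hk
    obtain ⟨i, hi, e⟩ := hKs k hk
    obtain ⟨l, hl, e2⟩ := longest_simple (h := h) hwj hi
    exact ⟨l, hl, by rw [hv, rep_mul_apply, e, e2]⟩
  -- `v` on the other simple roots of `J`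
  have hvN : ∀ k ∈ J, k ∉ K → rep cs h w (sr k) ≤ 0 := by
    intro k hk hkK
    rcases ((isRoot_sr cs h k).act w).pos_or_neg with h1 | h1
    · exact absurd ⟨hk, h1⟩ hkK
    · exact h1
  have hvN' : ∀ k ∈ J, k ∉ K → 0 ≤ rep cs h v (sr k) := by
    intro k hk hkK
    have h1 : -rep cs h w (sr k) ∈ PosJ cs h J := by
      refine ⟨((isRoot_sr cs h k).act w).neg, neg_nonneg.2 (hvN k hk hkK), fun l hl => ?_⟩
      rw [Pi.neg_apply, Cfsg.Agent.Tits.RootComb.rep_apply_of_mem cs h hw.mem (sr k) hl, sr_ne (by rintro rfl; exact hl hk), neg_zero]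
    have h2 := rep_longest_nonpos hwj h1
    rw [map_neg] at h2
    rw [hv, rep_mul_apply]
    exact neg_nonpos.1 h2
  -- `v = v' y`
  obtain ⟨v', hv', y, hy, e⟩ := exists_isMinR cs K v
  have hyJ : y ∈ WJ cs J := WJ_mono cs (fun k hk => hk.1) hy
  have hv'J : v' ∈ WJ cs J := by
    have : v' = v * y⁻¹ := by rw [e]; group
    rw [this]
    exact mul_mem hvJ (inv_mem hyJ)
  have hv'K : ∀ k ∈ K, 0 ≤ rep cs h v' (sr k) := by
    intro k hk
    have h1 := hv' _ (simple_mem_WJ cs hk)
    rw [cs.length_simple] at h1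
    exact nonneg_of_lt cs h v' k (by omega)
  have hv'1 : v' = 1 := by
    refine eq_one_of_nonneg (cs := cs) (h := h) fun k => ?_
    by_cases hkJ : k ∈ J
    · by_cases hkK : k ∈ K
      · exact hv'K k hkK
      · -- `v' α_k = v (y⁻¹ α_k)`
        rcases ((isRoot_sr cs h k).act v').pos_or_neg with h1 | h1
        · exact h1
        · exfalso
          -- `v α_k` has all the coordinates in the span of the images of `K`
          have hy1 : rep cs h v' (sr k) = rep cs h v (rep cs h y⁻¹ (sr k)) := by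
            rw [← rep_mul_apply, e, mul_assoc, mul_inv_cancel, mul_one]
          -- coordinates of `y⁻¹ α_k`
          have hyk : 0 ≤ rep cs h y⁻¹ (sr k) := by
            have h2 : rep cs h y⁻¹ (sr k) k = 1 := by
              rw [Cfsg.Agent.Tits.RootComb.rep_apply_of_mem cs h (inv_mem hy) (sr k) hkK, sr_self]
            exact nonneg_of_pos_apply ((isRoot_sr cs h k).act _) (k := k) (by rw [h2]; exact one_pos)
          have h3 : rep cs h v' (sr k) = rep cs h v (sr k) +
              ∑ l ∈ Finset.univ.erase k, (rep cs h y⁻¹ (sr k)) l • rep cs h v (sr l) := by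
            rw [hy1, rep_sum v, ← Finset.add_sum_erase _ _ (Finset.mem_univ k),
              Cfsg.Agent.Tits.RootComb.rep_apply_of_mem cs h (inv_mem hy) (sr k) hkK, sr_self, one_smul]
          -- `v α_k ≥ 0`, `v α_l ≤ 0` for `l ∈ K`
          have h4 : ∀ l ∈ Finset.univ.erase k, l ∉ K → (rep cs h y⁻¹ (sr k)) l = 0 := by
            intro l hl hlK
            rw [Cfsg.Agent.Tits.RootComb.rep_apply_of_mem cs h (inv_mem hy) (sr k) hlK, sr_ne (Finset.ne_of_mem_erase hl)]
          -- apply `v⁻¹`: `v'⁻¹`.. use that `v α_k` is not in the span of the images of `K`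
          have h5 : ∀ x : I → ℤ, 0 ≤ x → (∀ l, l ∉ K → x l = 0) →
              ∃ z : I → ℤ, rep cs h v x = -z ∧ 0 ≤ z := by
            intro x hx hxK
            refine ⟨-rep cs h v x, (neg_neg _).symm, ?_⟩
            rw [rep_sum, ← Finset.sum_neg_distrib]
            refine Finset.sum_nonneg fun l _ => ?_
            by_cases hl : l ∈ K
            · obtain ⟨i, -, e2⟩ := hvK l hl
              rw [e2, smul_neg, neg_neg]
              exact smul_nonneg (hx l) (sr_nonneg i)
            · rw [hxK l hl, zero_smul, neg_zero]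
          -- the set of coordinates where the images of `K` live
          set K' : Set I := {i | ∃ l ∈ K, rep cs h v (sr l) = -sr i} with hK'
          have h6 : ∃ i, i ∉ K' ∧ 0 < rep cs h v (sr k) i := by
            by_contra hcon
            push Not at hcon
            have h7 : ∀ i, i ∉ K' → rep cs h v (sr k) i = 0 := fun i hi =>
              le_antisymm (hcon i hi) (hvN' k hkJ hkK i)
            -- then `α_k = v⁻¹ (v α_k) ≤ 0`
            have h8 : sr k = ∑ i, (rep cs h v (sr k)) i • rep cs h v⁻¹ (sr i) := by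
              rw [← rep_sum, rep_inv_apply]
            have h9 : (sr k : I → ℤ) ≤ 0 := by
              rw [h8]
              refine Finset.sum_nonpos fun i _ => ?_
              by_cases hi : i ∈ K'
              · obtain ⟨l, -, e2⟩ := hi
                have h10 : rep cs h v⁻¹ (sr i) = -sr l := by
                  have : (sr i : I → ℤ) = -rep cs h v (sr l) := by rw [e2, neg_neg]
                  rw [this, map_neg, rep_inv_apply]
                rw [h10, smul_neg, neg_nonpos]
                exact smul_nonneg (hvN' k hkJ hkK i) (sr_nonneg l)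
              · rw [h7 i hi, zero_smul]
            have h13 : (sr k : I → ℤ) k ≤ 0 := h9 k
            rw [sr_self] at h13
            exact absurd h13 (by norm_num)
          obtain ⟨i, hiK', hi⟩ := h6
          have h11 : rep cs h v' (sr k) i = rep cs h v (sr k) i := by
            rw [h3, Pi.add_apply, Finset.sum_apply, Finset.sum_eq_zero, add_zero]
            intro l hl
            by_cases hlK : l ∈ K
            · obtain ⟨i', -, e2⟩ := hvK l hlK
              have hne : i ≠ i' := by
                rintro rfl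
                exact hiK' ⟨l, hlK, e2⟩
              rw [Pi.smul_apply, e2, Pi.neg_apply, sr_ne hne, neg_zero, smul_zero]
            · rw [h4 l hl hlK, zero_smul, Pi.zero_apply]
          have h12 := h1 i
          rw [h11] at h12
          exact absurd hi (not_lt.2 h12)
    · refine nonneg_of_pos_apply ((isRoot_sr cs h k).act _) (k := k) ?_
      rw [Cfsg.Agent.Tits.RootComb.rep_apply_of_mem cs h hv'J (sr k) hkJ, sr_self]
      exact one_pos
  have hvy : v = y := by rw [e, hv'1, one_mul]
  have hvKm : v ∈ WJ cs K := by rw [hvy]; exact hy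
  have hvK' : ∀ k ∈ K, ∃ k' ∈ K, rep cs h v (sr k) = -sr k' := by
    intro k hk
    obtain ⟨i, -, e2⟩ := hvK k hk
    refine ⟨i, ?_, e2⟩
    by_contra hi
    have h1 := congrFun e2 i
    rw [Cfsg.Agent.Tits.RootComb.rep_apply_of_mem cs h hvKm (sr k) hi, Pi.neg_apply, sr_self, sr_ne (by rintro rfl; exact hi hk)] at h1
    exact absurd h1 (by decide)
  refine ⟨K, v, hvKm, fun k hk => hk.1, ?_, hwv, hKs, hvN, hvK'⟩
  -- `v ^ 2 = 1`
  have hvv : v * v ∈ WJ cs K := mul_mem hvKm hvKm
  refine eq_one_of_nonneg (cs := cs) (h := h) fun k => ?_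
  by_cases hk : k ∈ K
  · obtain ⟨i, hiK, e2⟩ := hvK' k hk
    obtain ⟨l, -, e3⟩ := hvK i hiK
    rw [rep_mul_apply, e2, map_neg, e3, neg_neg]
    exact sr_nonneg l
  · refine nonneg_of_pos_apply ((isRoot_sr cs h k).act _) (k := k) ?_
    rw [Cfsg.Agent.Tits.RootComb.rep_apply_of_mem cs h hvv (sr k) hk, sr_self]
    exact one_pos

end Fin

end Cfsg.Agent.H148.GG
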