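import Cfsg.Agent.H641.Gow.Mackey

/-!
# S4884, helper148: Mackey's formula with one double coset

`U, P ≤ G`, `α` a class function of `P`, `ψ` a linear character of `U`; if all the Mackey terms outside of `U y P` vanish,
then `[Ind α | U, ψ] = |U ∩ y P y⁻¹|⁻¹ ∑ α (y⁻¹ u y) conj (ψ u)`.
-/

set_option autoImplicit false

open scoped ComplexConjugate
open Cfsg

namespace Cfsg.Agent.H148.GG

open Cfsg.Agent.OddOrderCharacters.Clifford Cfsg.Agent.Characters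

variable {G : Type*} [Group G]

/-- `U ∩ y P y⁻¹` -/
def ds (U P : Subgroup G) (y : G) : Subgroup ↥U where
  carrier := {u | y⁻¹ * (u : G) * y ∈ P}
  mul_mem' := by
    intro a b ha hb
    have : y⁻¹ * ((a * b : ↥U) : G) * y = (y⁻¹ * (a : G) * y) * (y⁻¹ * (b : G) * y) := by
      rw [Subgroup.coe_mul]; group
    change _ ∈ P
    rw [this]
    exact mul_mem ha hb
  one_mem' := by
    change y⁻¹ * ((1 : ↥U) : G) * y ∈ P
    rw [Subgroup.coe_one, mul_one, inv_mul_cancel]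
    exact one_mem P
  inv_mem' := by
    intro a ha
    have : y⁻¹ * ((a⁻¹ : ↥U) : G) * y = (y⁻¹ * (a : G) * y)⁻¹ := by
      rw [Subgroup.coe_inv]; group
    change _ ∈ P
    rw [this]
    exact inv_mem ha

theorem mem_ds {U P : Subgroup G} {y : G} {u : ↥U} : u ∈ ds U P y ↔ y⁻¹ * (u : G) * y ∈ P := Iff.rfl

/-- the double coset -/
def DC2 (U P : Subgroup G) (y x : G) : Prop := ∃ a ∈ U, ∃ b ∈ P, x = a * y * b

theorem card_fiber2 [Fintype G] (U P : Subgroup G) [Fintype ↥U] [Fintype ↥P] (y x : G) (hx : DC2 U P y x)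
    [DecidablePred fun q : ↥U × ↥P => (q.1 : G) * y * q.2 = x] [Fintype (ds U P y)] :
    (Finset.univ.filter fun q : ↥U × ↥P => (q.1 : G) * y * q.2 = x).card = Fintype.card (ds U P y) := by
  classical
  obtain ⟨a, ha, b, hb, rfl⟩ := hx
  rw [← Finset.card_univ]
  symm
  refine Finset.card_bij
    (fun d _ => ((⟨a, ha⟩ : ↥U) * (d : ↥U),
      (⟨y⁻¹ * ((d : ↥U) : G)⁻¹ * y * b, by
        have h1 := inv_mem (mem_ds.1 d.2)
        have h2 : (y⁻¹ * ((d : ↥U) : G) * y)⁻¹ = y⁻¹ * ((d : ↥U) : G)⁻¹ * y := by group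
        rw [h2] at h1
        exact mul_mem h1 hb⟩ : ↥P))) ?_ ?_ ?_
  · intro d _
    rw [Finset.mem_filter]
    refine ⟨Finset.mem_univ _, ?_⟩
    simp only [Subgroup.coe_mul]
    group
  · intro d _ e _ hde
    have h1 := congrArg Prod.fst hde
    exact Subtype.ext (mul_left_cancel h1)
  · rintro ⟨c, e⟩ hce
    rw [Finset.mem_filter] at hce
    have h1 : (c : G) * y * e = a * y * b := hce.2
    have h2 : y⁻¹ * (a⁻¹ * c) * y = b * (e : G)⁻¹ := by
      have : (c : G) = a * y * b * (e : G)⁻¹ * y⁻¹ := by rw [← h1]; group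
      rw [this]; group
    have h3 : (⟨a, ha⟩ : ↥U)⁻¹ * c ∈ ds U P y := by
      rw [mem_ds]
      have : y⁻¹ * (((⟨a, ha⟩ : ↥U)⁻¹ * c : ↥U) : G) * y = b * (e : G)⁻¹ := h2
      rw [this]
      exact mul_mem hb (inv_mem e.2)
    refine ⟨⟨_, h3⟩, Finset.mem_univ _, ?_⟩
    apply Prod.ext
    · exact mul_inv_cancel_left _ _
    · apply Subtype.ext
      change y⁻¹ * (((⟨a, ha⟩ : ↥U)⁻¹ * c : ↥U) : G)⁻¹ * y * b = e
      have e1 : y⁻¹ * (((⟨a, ha⟩ : ↥U)⁻¹ * c : ↥U) : G)⁻¹ * y = (y⁻¹ * (a⁻¹ * (c : G)) * y)⁻¹ := by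
        rw [Subgroup.coe_mul, Subgroup.coe_inv]
        group
      rw [e1, h2]
      group

theorem sum_dc [Fintype G] (U P : Subgroup G) [Fintype ↥U] [Fintype ↥P] (y : G) (F : G → ℂ)
    (hF : ∀ x, DC2 U P y x → F x = F y) (h0 : ∀ x, ¬ DC2 U P y x → F x = 0) [Fintype (ds U P y)] :
    ∑ x : G, F x = (Nat.card U : ℂ) * (Nat.card P : ℂ) * ((Fintype.card (ds U P y) : ℂ)⁻¹ * F y) := by
  classical
  have hd : (Fintype.card (ds U P y) : ℂ) ≠ 0 := by
    have : 0 < Fintype.card (ds U P y) := Fintype.card_pos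
    exact_mod_cast this.ne'
  have h1 : ∑ q : ↥U × ↥P, F ((q.1 : G) * y * q.2) = (Nat.card U : ℂ) * (Nat.card P : ℂ) * F y := by
    have : ∀ q : ↥U × ↥P, F ((q.1 : G) * y * q.2) = F y := fun q => hF _ ⟨q.1, q.1.2, q.2, q.2.2, rfl⟩
    simp only [this]
    rw [Finset.sum_const, Finset.card_univ, Fintype.card_prod, nsmul_eq_mul, ← Nat.card_eq_fintype_card,
      ← Nat.card_eq_fintype_card]
    push_cast
    ring
  have h2 : ∑ q : ↥U × ↥P, F ((q.1 : G) * y * q.2) = ∑ x : G, (Fintype.card (ds U P y) : ℂ) * F x := by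
    have h3 : ∀ q ∈ (Finset.univ : Finset (↥U × ↥P)), (q.1 : G) * y * q.2 ∈ (Finset.univ : Finset G) :=
      fun q _ => Finset.mem_univ _
    rw [← Finset.sum_fiberwise_of_maps_to h3]
    refine Finset.sum_congr rfl fun x _ => ?_
    have h4 : ∀ q ∈ Finset.univ.filter (fun q : ↥U × ↥P => (q.1 : G) * y * q.2 = x), F ((q.1 : G) * y * q.2) = F x := by
      intro q hq
      rw [(Finset.mem_filter.1 hq).2]
    by_cases hx : DC2 U P y x
    · rw [Finset.sum_congr rfl h4, Finset.sum_const, card_fiber2 U P y x hx, nsmul_eq_mul]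
    · rw [h0 x hx, mul_zero]
      refine Finset.sum_eq_zero fun q hq => ?_
      rw [h4 q hq, h0 x hx]
  rw [← Finset.mul_sum, h1] at h2
  have h5 : ∑ x : G, F x = (Fintype.card (ds U P y) : ℂ)⁻¹ * ((Nat.card U : ℂ) * (Nat.card P : ℂ) * F y) := by
    rw [h2, inv_mul_cancel_left₀ hd]
  rw [h5]
  ring

/-- the Mackey term -/
noncomputable def mk (U P : Subgroup G) [Fintype ↥U] (α : ↥P → ℂ) (ψ : ↥U →* ℂˣ) (x : G) : ℂ :=
  ∑ u : ↥U, extendByZero P α (x⁻¹ * (u : G) * x) * conj (ψ u : ℂ)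

theorem mk_mul (U P : Subgroup G) [Fintype ↥U] {α : ↥P → ℂ} (hα : IsClassFunction ↥P α) (ψ : ↥U →* ℂˣ) {a b : G}
    (ha : a ∈ U) (hb : b ∈ P) (x : G) : mk U P α ψ (a * x * b) = mk U P α ψ x := by
  classical
  have hext : ∀ g : G, extendByZero P α (b⁻¹ * g * b) = extendByZero P α g := by
    intro g
    by_cases hg : g ∈ P
    · rw [Core.extendByZero_of_mem P α hg, Core.extendByZero_of_mem P α (mul_mem (mul_mem (inv_mem hb) hg) hb)]
      have := hα ⟨g, hg⟩ (⟨b, hb⟩ : ↥P)⁻¹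
      rw [← this]
      congr 1
      apply Subtype.ext
      simp only [Subgroup.coe_mul, InvMemClass.coe_inv, inv_inv]
    · rw [Core.extendByZero_of_notMem P α hg, Core.extendByZero_of_notMem]
      intro h1
      apply hg
      have : g = b * (b⁻¹ * g * b) * b⁻¹ := by group
      rw [this]
      exact mul_mem (mul_mem hb h1) (inv_mem hb)
  unfold mk
  refine Fintype.sum_equiv (MulAut.conj (⟨a, ha⟩ : ↥U)⁻¹).toEquiv _ _ fun u => ?_
  have e1 : (a * x * b)⁻¹ * (u : G) * (a * x * b) = b⁻¹ * (x⁻¹ * (a⁻¹ * u * a) * x) * b := by group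
  have e2 : (((MulAut.conj (⟨a, ha⟩ : ↥U)⁻¹).toEquiv u : ↥U) : G) = a⁻¹ * u * a := by
    change (((⟨a, ha⟩ : ↥U)⁻¹ * u * ((⟨a, ha⟩ : ↥U)⁻¹)⁻¹ : ↥U) : G) = _
    simp only [Subgroup.coe_mul, InvMemClass.coe_inv, inv_inv]
  have e3 : ψ ((MulAut.conj (⟨a, ha⟩ : ↥U)⁻¹).toEquiv u) = ψ u := by
    change ψ ((⟨a, ha⟩ : ↥U)⁻¹ * u * ((⟨a, ha⟩ : ↥U)⁻¹)⁻¹) = ψ u
    rw [map_mul, map_mul, map_inv, inv_inv, mul_comm, mul_inv_cancel_left]
  rw [e1, hext, e2, e3]

/-- **Mackey's formula with one double coset.** -/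
theorem classInner_res_ind [Fintype G] (U P : Subgroup G) [Fintype ↥U] [Fintype ↥P] {α : ↥P → ℂ}
    (hα : IsClassFunction ↥P α) (ψ : ↥U →* ℂˣ) (y : G) (h0 : ∀ x, ¬ DC2 U P y x → mk U P α ψ x = 0)
    [Fintype (ds U P y)] :
    classInner (indFun P α ∘ U.subtype) (fun u : ↥U => (ψ u : ℂ)) =
      (Fintype.card (ds U P y) : ℂ)⁻¹ * mk U P α ψ y := by
  have hU : (Nat.card U : ℂ) ≠ 0 := by
    have : 0 < Nat.card U := Nat.card_pos
    exact_mod_cast this.ne'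
  have hP : (Nat.card P : ℂ) ≠ 0 := by
    have : 0 < Nat.card P := Nat.card_pos
    exact_mod_cast this.ne'
  have h1 : ∑ u : ↥U, (indFun P α ∘ U.subtype) u * conj (ψ u : ℂ) =
      (Nat.card P : ℂ)⁻¹ * ∑ x : G, mk U P α ψ x := by
    unfold mk
    rw [Finset.sum_comm, Finset.mul_sum]
    refine Finset.sum_congr rfl fun u _ => ?_
    rw [Function.comp_apply, Subgroup.coe_subtype, indFun_apply, mul_assoc, Finset.sum_mul]
  rw [Core.classInner_def, h1, sum_dc U P y (mk U P α ψ) ?_ h0]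
  · field_simp
  · rintro x ⟨a, ha, b, hb, rfl⟩
    exact mk_mul U P hα ψ ha hb y

end Cfsg.Agent.H148.GG
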