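import Cfsg.Agent.H148.GG.GGOne
import Cfsg.Agent.H148.GG.Mk

/-!
# S4884, helper148: (F3) `[R_J η, Γ] = [η, Γ_J]`

* `exists_minR` : the elements `v` minimal in `v W_J` different from `w₀ w_J` map some root group of `V_J` to a simple one;
* `f3` : `[HC R J η | U, ψ] = [η | U_J, ψ_J]` for nondegenerate characters `ψ`, `ψ_J`.
-/

set_option autoImplicit false
set_option linter.unusedSectionVars false

open scoped ComplexConjugate
open Cfsg

namespace Cfsg.Agent.H148.GG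

open CoxeterSystem Cfsg.Agent.ChevalleyStructure.CoxeterGeom Cfsg.Agent.Tits.Roots Cfsg.Agent.Tits.Core
  Cfsg.Agent.Tits.Exchange Cfsg.Agent.Nodes.Reps Cfsg.Agent.Nodes.BNOf Cfsg.Agent.Nodes.StabComb
  Cfsg.Agent.Nodes.Bruhat Cfsg.Agent.Nodes.OppDec Cfsg.Agent.Nodes.LeviDec Cfsg.Agent.H53.HC
  Cfsg.Agent.Characters Cfsg.Agent.H641.Gow

section Comb

variable {I W : Type*} [Fintype I] [DecidableEq I] [Group W] {M : CoxeterMatrix I}
  {cs : CoxeterSystem M W} {A : I → I → ℤ} {h : IsCartan M A}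

theorem ht_sr (k : I) : ht (sr k : I → ℤ) = 1 := by
  unfold ht
  rw [Finset.sum_eq_single k (fun i _ hi => sr_ne hi) (fun h => absurd (Finset.mem_univ k) h), sr_self]

/-- a nonnegative vector of height at most one -/
theorem eq_sr_of_ht {β : I → ℤ} (h0 : 0 ≤ β) (hne : β ≠ 0) (hht : ht β ≤ 1) : ∃ i, β = sr i := by
  obtain ⟨i, hi⟩ : ∃ i, 0 < β i := by
    by_contra hcon
    push Not at hcon
    exact hne (funext fun i => le_antisymm (hcon i) (h0 i))
  refine ⟨i, funext fun l => ?_⟩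
  unfold ht at hht
  have h3 : β i + ∑ l ∈ Finset.univ.erase i, β l ≤ 1 := by
    rw [Finset.add_sum_erase _ _ (Finset.mem_univ i)]; exact hht
  have h4 : 0 ≤ ∑ l ∈ Finset.univ.erase i, β l := Finset.sum_nonneg fun l _ => h0 l
  by_cases hl : l = i
  · rw [hl, sr_self]; omega
  · rw [sr_ne hl]
    have h5 : β l ≤ ∑ l ∈ Finset.univ.erase i, β l :=
      Finset.single_le_sum (fun l _ => h0 l) (Finset.mem_erase.2 ⟨hl, Finset.mem_univ l⟩)
    have := h0 l
    simp only [Pi.zero_apply] at this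
    omega

theorem isMinR_nonneg {J : Set I} {v : W} (hv : IsMinR cs J v) {j : I} (hj : j ∈ J) : 0 ≤ rep cs h v (sr j) := by
  have h1 := hv _ (simple_mem_WJ cs hj)
  rw [cs.length_simple] at h1
  exact nonneg_of_lt cs h v j (by omega)

/-- `v` minimal in `v W_J`, `v ≠ w₀ w_J` : some simple root comes from a positive root outside `J` -/
theorem exists_of_minR [Finite W] {J : Set I} {v wj : W} (hv : IsMinR cs J v) (hwj : IsLongest cs J wj)
    (hne : v ≠ w0 cs * wj) : ∃ i, rep cs h v⁻¹ (sr i) ∈ NotJ cs h J := by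
  by_contra hcon
  push Not at hcon
  apply hne
  have hww : wj * wj = 1 := IsLongest.mul_self hwj
  have h00 : w0 cs * w0 cs = 1 := (isLongest_w0 cs).mul_self
  -- each simple root comes from a negative root or from a simple root of `J`
  have hdic : ∀ i, rep cs h v⁻¹ (sr i) ≤ 0 ∨ ∃ j ∈ J, rep cs h v⁻¹ (sr i) = sr j := by
    intro i
    rcases ((isRoot_sr cs h i).act v⁻¹).pos_or_neg with h0 | h0
    · right
      rcases mem_PosJ_or_NotJ J ((isRoot_sr cs h i).act v⁻¹) h0 with h1 | h1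
      · set x := rep cs h v⁻¹ (sr i) with hx
        have hvx : rep cs h v x = sr i := by rw [hx, rep_apply_inv]
        have hle : ht x ≤ 1 := by
          rw [← ht_sr i, ← hvx, rep_sum]
          unfold ht
          simp only [Finset.sum_apply, Pi.smul_apply, smul_eq_mul]
          rw [Finset.sum_comm]
          refine Finset.sum_le_sum fun l _ => ?_
          rw [← Finset.mul_sum]
          by_cases hl : l ∈ J
          · have h2 : 1 ≤ ∑ k, rep cs h v (sr l) k :=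
              sum_pos (isMinR_nonneg hv hl) ((isRoot_sr cs h l).act v).ne_zero
            exact le_mul_of_one_le_right (h1.2.1 l) h2
          · rw [h1.2.2 l hl, zero_mul]
        obtain ⟨j, hj⟩ := eq_sr_of_ht h0 h1.1.ne_zero hle
        exact ⟨j, by rw [hj] at h1; exact sr_mem_of_PosJ h1, hj⟩
      · exact absurd h1 (hcon i)
    · exact Or.inl h0
  have hz : w0 cs * v * wj = 1 := by
    refine eq_one_of_nonneg (cs := cs) (h := h) fun j => ?_
    rw [rep_mul_apply, rep_mul_apply]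
    by_cases hj : j ∈ J
    · obtain ⟨k, hk, e⟩ := longest_simple (h := h) hwj hj
      rw [e, map_neg]
      exact rep_w0_nonneg ((isRoot_sr cs h k).act v).neg (neg_nonpos.2 (isMinR_nonneg hv hk))
    · have hβ : rep cs h wj (sr j) ∈ NotJ cs h J := NotJ.act hwj.1 (sr_mem_NotJ hj)
      have hβj : rep cs h wj (sr j) j = 1 := by
        rw [Cfsg.Agent.Tits.RootComb.rep_apply_of_mem cs h hwj.1 (sr j) hj, sr_self]
      refine rep_w0_nonneg (hβ.1.act v) ?_
      rcases (hβ.1.act v).pos_or_neg with h1 | h1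
      · exfalso
        have h2 : rep cs h wj (sr j) = ∑ l, (rep cs h v (rep cs h wj (sr j))) l • rep cs h v⁻¹ (sr l) := by
          rw [← rep_sum, rep_inv_apply]
        have h3 := congrFun h2 j
        rw [hβj, Finset.sum_apply] at h3
        have h4 : ∑ l, ((rep cs h v (rep cs h wj (sr j))) l • rep cs h v⁻¹ (sr l)) j ≤ 0 := by
          refine Finset.sum_nonpos fun l _ => ?_
          rw [Pi.smul_apply, smul_eq_mul]
          refine mul_nonpos_of_nonneg_of_nonpos (h1 l) ?_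
          rcases hdic l with h5 | ⟨k, hk, h5⟩
          · exact h5 j
          · rw [h5, sr_ne (by rintro rfl; exact hj hk)]
        omega
      · exact h1
  have h1 : v = w0 cs * (w0 cs * v * wj) * wj := by
    calc v = (w0 cs * w0 cs) * v * (wj * wj) := by rw [h00, hww, one_mul, mul_one]
      _ = _ := by group
  rw [h1, hz, mul_one]

/-- `w₀ w_J` maps the positive roots of `J` to positive roots -/
theorem rep_w0wj_nonneg [Finite W] {J : Set I} {wj : W} (hwj : IsLongest cs J wj) {x : I → ℤ} (hx : x ∈ PosJ cs h J) :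
    0 ≤ rep cs h (w0 cs * wj) x := by
  rw [rep_mul_apply]
  exact rep_w0_nonneg (hx.1.act wj) (rep_longest_nonpos hwj hx)

/-- `(w₀ w_J)⁻¹` maps positive roots to positive roots of `J` or to negative roots outside of `J` -/
theorem rep_w0wj_inv [Finite W] {J : Set I} {wj : W} (hwj : IsLongest cs J wj) {x : I → ℤ} (hx : IsRoot cs h x)
    (h0 : 0 ≤ x) : rep cs h (w0 cs * wj)⁻¹ x ∈ PosJ cs h J ∪ NotNJ cs h J := by
  rw [mul_inv_rev, w0_inv, IsLongest.inv_eq hwj, rep_mul_apply]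
  have h1 : rep cs h (w0 cs) x ≤ 0 := rep_w0_nonpos hx h0
  have h2 : IsRoot cs h (-rep cs h (w0 cs) x) := (hx.act _).neg
  rcases mem_PosJ_or_NotJ J h2 (neg_nonneg.2 h1) with h3 | h3
  · left
    have h4 : rep cs h wj (rep cs h (w0 cs) x) = -rep cs h wj (-rep cs h (w0 cs) x) := by rw [map_neg, neg_neg]
    rw [h4]
    refine ⟨(h3.1.act _).neg, neg_nonneg.2 (rep_longest_nonpos hwj h3), fun k hk => ?_⟩
    rw [Pi.neg_apply, Cfsg.Agent.Tits.RootComb.rep_apply_of_mem cs h hwj.1 _ hk, h3.2.2 k hk, neg_zero]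
  · right
    exact NotNJ.act hwj.1 h3

end Comb

variable {I W Y : Type*} [Fintype I] [DecidableEq I] [Group W] [Group Y] {M : CoxeterMatrix I}
  {cs : CoxeterSystem M W} {A : I → I → ℤ} {h : IsCartan M A} {p : ℕ} {T : Subgroup Y} {n : I → Y}
  {X : (I → ℤ) → Subgroup Y}

variable (R : RGD cs h p T n X)

include R

/-- `(w₀ w_J)⁻¹ U (w₀ w_J) ∩ P_J ≤ U_J` -/
theorem conj_mem_UJ [Finite W] {J : Set I} {wj : W} (hwj : IsLongest cs J wj) {k : Y}
    (hk : Rp cs R.nsys (w0 cs * wj) k) {u : Y} (hu : u ∈ UJ cs h X Set.univ) (hP : k⁻¹ * u * k ∈ PJ cs h T X J) :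
    k⁻¹ * u * k ∈ UJ cs h X J := by
  have h1 : k⁻¹ * u * k ∈ RGD.Sup X (PosJ cs h J ∪ NotNJ cs h J) := by
    refine conj_mem_Sup' R hk (S := PosJ cs h Set.univ) (fun x hx => hx.1) (fun x hx => ?_) hu
    exact rep_w0wj_inv hwj hx.1 hx.2.1
  have h2 : RGD.Sup X (PosJ cs h J ∪ NotNJ cs h J) ≤ UJ cs h X J ⊔ VNJ cs h X J := by
    refine RGD.Sup_le fun x hx => ?_
    rcases hx with hx | hx
    · exact le_trans (X_le_UJ hx) le_sup_left
    · exact le_trans (RGD.le_Sup (S := NotNJ cs h J) hx) le_sup_right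
  have h3 : k⁻¹ * u * k ∈ ((UJ cs h X J ⊔ VNJ cs h X J : Subgroup Y) : Set Y) := h2 h1
  rw [Subgroup.coe_mul_of_left_le_normalizer_right _ _
    (le_trans (UJ_le_LJ (T := T)) (LJ_le_normalizer_VNJ R J)), Set.mem_mul] at h3
  obtain ⟨l, hl, v, hv, e⟩ := h3
  have h4 : v ∈ PJ cs h T X J := by
    have e2 : v = l⁻¹ * (k⁻¹ * u * k) := by rw [← e]; group
    rw [e2]
    exact mul_mem (inv_mem (LJ_le_PJ (UJ_le_LJ hl))) hP
  have h5 := eq_one_of_mem_VNJ_of_mem_PJ R hv h4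
  rw [← e, h5, mul_one]
  exact hl

theorem conj_mem_U [Finite W] {J : Set I} {wj : W} (hwj : IsLongest cs J wj) {k : Y}
    (hk : Rp cs R.nsys (w0 cs * wj) k) {u : Y} (hu : u ∈ UJ cs h X J) : k * u * k⁻¹ ∈ UJ cs h X Set.univ := by
  refine conj_mem_Sup R hk (S := PosJ cs h J) (fun x hx => hx.1) (fun x hx => ?_) hu
  exact ⟨hx.1.act _, rep_w0wj_nonneg hwj hx, fun k hk => absurd (Set.mem_univ k) hk⟩

/-- the inner products of a class function of `L_J` with the nondegenerate characters of `U_J` are equal -/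
theorem classInner_nd [Finite W] {F : I → Type*} [∀ i, Field (F i)] [∀ i, Finite (F i)] (D : Adj T X F) {J : Set I}
    [Fintype ↥(UJ cs h X J)] {η : ↥(LJ cs h T X J) → ℂ} (hη : IsClassFunction _ η) {ψ ψ' : ↥(UJ cs h X J) →* ℂˣ}
    (hψ : Nd cs h X J ψ) (hψ' : Nd cs h X J ψ') :
    classInner (η ∘ Subgroup.inclusion (UJ_le_LJ (cs := cs) (h := h) (T := T) (X := X) (J := J)))
        (fun u : ↥(UJ cs h X J) => (ψ u : ℂ)) =
      classInner (η ∘ Subgroup.inclusion (UJ_le_LJ (cs := cs) (h := h) (T := T) (X := X) (J := J)))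
        (fun u : ↥(UJ cs h X J) => (ψ' u : ℂ)) := by
  obtain ⟨t, ht, hc⟩ := hψ.exists_conj R D hψ'
  rw [Core.classInner_def, Core.classInner_def]
  congr 1
  symm
  let e : ↥(UJ cs h X J) ≃ ↥(UJ cs h X J) :=
    { toFun := fun u => ⟨t * u * t⁻¹, conjT_UJ R ht u.2⟩
      invFun := fun u => ⟨t⁻¹ * u * t, by
        have := conjT_UJ R (inv_mem ht) u.2
        rwa [inv_inv] at this⟩
      left_inv := fun u => Subtype.ext (by
        change t⁻¹ * (t * (u : Y) * t⁻¹) * t = u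
        group)
      right_inv := fun u => Subtype.ext (by
        change t * (t⁻¹ * (u : Y) * t) * t⁻¹ = u
        group) }
  refine Fintype.sum_equiv e _ _ fun u => ?_
  have h1 : ψ' u = ψ (e u) := hc u u.2
  rw [h1]
  congr 1
  have h2 := hη ⟨u, UJ_le_LJ u.2⟩ ⟨t, T_le_LJ ht⟩
  exact h2.symm

/-- **(F3)** `[R_J η, Γ] = [η, Γ_J]` -/
theorem f3 [Finite W] [Fintype Y] (hG : GG cs h T X = ⊤) {F : I → Type*} [∀ i, Field (F i)] [∀ i, Finite (F i)]
    (D : Adj T X F) {J : Set I} [Fintype ↥(UJ cs h X J)] [Fintype ↥(UJ cs h X Set.univ)]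
    {η : ↥(LJ cs h T X J) → ℂ} (hη : IsClassFunction _ η) {ψ : ↥(UJ cs h X Set.univ) →* ℂˣ}
    (hψ : Nd cs h X Set.univ ψ) {ψ' : ↥(UJ cs h X J) →* ℂˣ} (hψ' : Nd cs h X J ψ') :
    classInner (HC R J η ∘ (UJ cs h X Set.univ).subtype) (fun u : ↥(UJ cs h X Set.univ) => (ψ u : ℂ)) =
      classInner (η ∘ Subgroup.inclusion (UJ_le_LJ (cs := cs) (h := h) (T := T) (X := X) (J := J)))
        (fun u : ↥(UJ cs h X J) => (ψ' u : ℂ)) := by
  classical
  have : Fintype ↥(PJ cs h T X J) := Fintype.ofFinite _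
  obtain ⟨wj, hwj⟩ := exists_isLongest cs J
  obtain ⟨k, hk⟩ := exists_rp cs R.nsys (w0 cs * wj)
  have : Fintype (ds (UJ cs h X Set.univ) (PJ cs h T X J) k) := Fintype.ofFinite _
  set α : ↥(PJ cs h T X J) → ℂ := η ∘ projL R J with hαdef
  have hα : IsClassFunction ↥(PJ cs h T X J) α := by
    intro g x
    rw [hαdef, Function.comp_apply, Function.comp_apply, map_mul, map_mul, map_inv]
    exact hη _ _
  -- the other terms vanish
  have h0 : ∀ x, ¬ DC2 (UJ cs h X Set.univ) (PJ cs h T X J) k x → mk (UJ cs h X Set.univ) (PJ cs h T X J) α ψ x = 0 := by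
    intro x hx
    obtain ⟨w, b₁, hb₁, m, hm, b₂, hb₂, e⟩ := (mem_GG R).1 (show x ∈ GG cs h T X by rw [hG]; trivial)
    obtain ⟨v, hv, y, hy, hw⟩ := exists_isMinR cs J w
    obtain ⟨mv, hmv⟩ := exists_rp cs R.nsys v
    rw [← BJ_univ] at hb₁
    obtain ⟨u₁, hu₁, t₁, ht₁, e1⟩ := mem_BJ R hb₁
    -- `x = u₁ (t₁ m_v) (rest ∈ (PJ cs h T X J))`
    have hmy : Rp cs R.nsys y (mv⁻¹ * m) := by
      have := hmv.inv.mul hm
      rwa [hw, inv_mul_cancel_left] at this
    have hmyP : mv⁻¹ * m ∈ (PJ cs h T X J) := LJ_le_PJ (rp_mem_LJ R hy hmy)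
    have hm' : Rp cs R.nsys v (t₁ * mv) := by
      have := (rp_of_mem (cs := cs) (hN := R.nsys) ht₁).mul hmv
      rwa [one_mul] at this
    have hxe : x = u₁ * (t₁ * mv) * (mv⁻¹ * m * b₂) := by rw [e, e1]; group
    have hrest : mv⁻¹ * m * b₂ ∈ (PJ cs h T X J) := mul_mem hmyP (B_le_PJ hb₂)
    rw [hxe, mk_mul (UJ cs h X Set.univ) (PJ cs h T X J) hα ψ hu₁ hrest]
    have hvne : v ≠ w0 cs * wj := by
      rintro rfl
      apply hx
      have h2 : k⁻¹ * (t₁ * mv) ∈ T := hk.unique hm'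
      refine ⟨u₁, hu₁, k⁻¹ * (t₁ * mv) * (mv⁻¹ * m * b₂), mul_mem (B_le_PJ (RGD.T_le_B h2)) hrest, ?_⟩
      rw [hxe]; group
    obtain ⟨i, hi⟩ := exists_of_minR (h := h) hv hwj hvne
    obtain ⟨x₀, hx₀', hx₀, hne⟩ := hψ.ne i (Set.mem_univ i)
    set g := t₁ * mv with hg
    have hv₀ : g⁻¹ * x₀ * g ∈ VJ cs h X J :=
      RGD.le_Sup (S := NotJ cs h J) hi (R.conj_mem' hm' (isRoot_sr cs h i) hx₀)
    have hv₀P : g⁻¹ * x₀ * g ∈ (PJ cs h T X J) := VJ_le_PJ hv₀
    have hext : ∀ z, extendByZero (PJ cs h T X J) α (z * (g⁻¹ * x₀ * g)) = extendByZero (PJ cs h T X J) α z := by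
      intro z
      by_cases hz : z ∈ (PJ cs h T X J)
      · rw [Core.extendByZero_of_mem (PJ cs h T X J) α hz, Core.extendByZero_of_mem (PJ cs h T X J) α (mul_mem hz hv₀P)]
        have e2 : (⟨z * (g⁻¹ * x₀ * g), mul_mem hz hv₀P⟩ : ↥(PJ cs h T X J)) = ⟨z, hz⟩ * ⟨g⁻¹ * x₀ * g, VJ_le_PJ hv₀⟩ := rfl
        rw [e2, hαdef, Function.comp_apply, Function.comp_apply, map_mul, projL_V R hv₀, mul_one]
      · rw [Core.extendByZero_of_notMem (PJ cs h T X J) α hz, Core.extendByZero_of_notMem]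
        intro h1
        apply hz
        have : z = z * (g⁻¹ * x₀ * g) * (g⁻¹ * x₀ * g)⁻¹ := by group
        rw [this]
        exact mul_mem h1 (inv_mem hv₀P)
    have hkey : mk (UJ cs h X Set.univ) (PJ cs h T X J) α ψ g = conj (ψ ⟨x₀, hx₀'⟩ : ℂ) * mk (UJ cs h X Set.univ) (PJ cs h T X J) α ψ g := by
      conv_lhs => unfold mk
      rw [mk, Finset.mul_sum]
      symm
      refine Fintype.sum_equiv (Equiv.mulRight (⟨x₀, hx₀'⟩ : ↥(UJ cs h X Set.univ))) _ _ fun u => ?_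
      have e3 : g⁻¹ * (((Equiv.mulRight (⟨x₀, hx₀'⟩ : ↥(UJ cs h X Set.univ))) u : ↥(UJ cs h X Set.univ)) : Y) * g = g⁻¹ * (u : Y) * g * (g⁻¹ * x₀ * g) := by
        change g⁻¹ * ((u : Y) * x₀) * g = _
        group
      have e4 : ψ ((Equiv.mulRight (⟨x₀, hx₀'⟩ : ↥(UJ cs h X Set.univ))) u) = ψ u * ψ ⟨x₀, hx₀'⟩ := map_mul ψ _ _
      rw [e3, hext, e4, Units.val_mul, map_mul]
      ring
    by_contra hcon
    have h1 : conj (ψ ⟨x₀, hx₀'⟩ : ℂ) = 1 := by
      have h2 : (1 - conj (ψ ⟨x₀, hx₀'⟩ : ℂ)) * mk (UJ cs h X Set.univ) (PJ cs h T X J) α ψ g = 0 := by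
        rw [sub_mul, one_mul, ← hkey, sub_self]
      rcases mul_eq_zero.1 h2 with h3 | h3
      · exact (sub_eq_zero.1 h3).symm
      · exact absurd h3 hcon
    apply hne
    apply Units.ext
    have h2 := congrArg conj h1
    rw [Complex.conj_conj, map_one] at h2
    exact h2
  have hmain := classInner_res_ind (UJ cs h X Set.univ) (PJ cs h T X J) hα ψ k h0
  -- the main term
  let e : ↥(UJ cs h X J) ≃ ↥(ds (UJ cs h X Set.univ) (PJ cs h T X J) k) :=
    { toFun := fun u => ⟨⟨k * u * k⁻¹, conj_mem_U R hwj hk u.2⟩, by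
        rw [mem_ds]
        have e2 : k⁻¹ * (k * (u : Y) * k⁻¹) * k = u := by group
        change k⁻¹ * (k * (u : Y) * k⁻¹) * k ∈ (PJ cs h T X J)
        rw [e2]
        exact LJ_le_PJ (UJ_le_LJ u.2)⟩
      invFun := fun d => ⟨k⁻¹ * ((d : ↥(UJ cs h X Set.univ)) : Y) * k, conj_mem_UJ R hwj hk (d : ↥(UJ cs h X Set.univ)).2 (mem_ds.1 d.2)⟩
      left_inv := fun u => Subtype.ext (by
        change k⁻¹ * (k * (u : Y) * k⁻¹) * k = u
        group)
      right_inv := fun d => Subtype.ext (Subtype.ext (by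
        change k * (k⁻¹ * ((d : ↥(UJ cs h X Set.univ)) : Y) * k) * k⁻¹ = (d : ↥(UJ cs h X Set.univ))
        group)) }
  -- the conjugate character
  let ψk : ↥(UJ cs h X J) →* ℂˣ :=
    { toFun := fun u => ψ (e u : ↥(UJ cs h X Set.univ))
      map_one' := by
        have e2 : ((e 1 : ↥(ds (UJ cs h X Set.univ) (PJ cs h T X J) k)) : ↥(UJ cs h X Set.univ)) = 1 := Subtype.ext (by
          change k * ((1 : ↥(UJ cs h X J)) : Y) * k⁻¹ = 1
          rw [Subgroup.coe_one, mul_one, mul_inv_cancel])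
        rw [e2, map_one]
      map_mul' := fun u v => by
        rw [← map_mul]
        congr 1
        apply Subtype.ext
        change k * ((u * v : ↥(UJ cs h X J)) : Y) * k⁻¹ = (k * (u : Y) * k⁻¹) * (k * (v : Y) * k⁻¹)
        rw [Subgroup.coe_mul]
        group }
  have hww : wj * wj = 1 := IsLongest.mul_self hwj
  have hψk : Nd cs h X J ψk := by
    refine ⟨fun x hx hxs u hu' hu => ?_, fun i hi => ?_⟩
    · have h1 : k * u * k⁻¹ ∈ X (rep cs h (w0 cs * wj) x) := R.conj_mem hk hx.1 hu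
      have h2 : rep cs h (w0 cs * wj) x ∈ PosJ cs h Set.univ :=
        ⟨hx.1.act _, rep_w0wj_nonneg hwj hx, fun l hl => absurd (Set.mem_univ l) hl⟩
      refine hψ.triv _ h2 (fun i hi => ?_) _ (conj_mem_U R hwj hk hu') h1
      obtain ⟨l, -, hl⟩ := longest_simple (h := h) (isLongest_w0 cs) (Set.mem_univ i)
      -- `x = w_J w₀ α_i = - w_J α_l`
      have h3 : x = -rep cs h wj (sr l) := by
        have h4 : x = rep cs h (w0 cs * wj)⁻¹ (sr i) := by rw [← hi, rep_inv_apply]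
        rw [h4, mul_inv_rev, w0_inv, IsLongest.inv_eq hwj, rep_mul_apply, hl, map_neg]
      by_cases hlJ : l ∈ J
      · obtain ⟨l', -, hl'⟩ := longest_simple (h := h) hwj hlJ
        rw [hl', neg_neg] at h3
        exact hxs l' h3
      · have h4 : 0 ≤ rep cs h wj (sr l) := (NotJ.act hwj.1 (sr_mem_NotJ hlJ)).2.1
        have h5 : x ≤ 0 := by rw [h3]; exact neg_nonpos.2 h4
        exact hx.1.not_pos_neg hx.2.1 h5
    · obtain ⟨i₁, hi₁, e₁⟩ := longest_simple (h := h) hwj hi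
      obtain ⟨i₂, -, e₂⟩ := longest_simple (h := h) (isLongest_w0 cs) (Set.mem_univ i₁)
      obtain ⟨y, hy', hy, hne⟩ := hψ.ne i₂ (Set.mem_univ i₂)
      have h1 : rep cs h (w0 cs * wj)⁻¹ (sr i₂) = sr i := by
        have h2 : rep cs h (w0 cs * wj) (sr i) = sr i₂ := by rw [rep_mul_apply, e₁, map_neg, e₂, neg_neg]
        rw [← h2, rep_inv_apply]
      have h2 : k⁻¹ * y * k ∈ X (sr i) := by
        have := R.conj_mem' hk (isRoot_sr cs h i₂) hy
        rwa [h1] at this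
      refine ⟨k⁻¹ * y * k, X_le_UJ (sr_mem_PosJ hi) h2, h2, ?_⟩
      intro h3
      apply hne
      rw [← h3]
      change ψ ⟨y, hy'⟩ = ψ ⟨k * (k⁻¹ * y * k) * k⁻¹, _⟩
      congr 1
      apply Subtype.ext
      change y = k * (k⁻¹ * y * k) * k⁻¹
      group
  rw [classInner_nd R D hη hψ' hψk]
  have hHC : HC R J η = indFun (PJ cs h T X J) α := rfl
  rw [hHC, hmain, Core.classInner_def, ← Fintype.card_congr e, Nat.card_eq_fintype_card]
  congr 1
  unfold mk
  have hsupp : ∀ u : ↥(UJ cs h X Set.univ), u ∉ ds (UJ cs h X Set.univ) (PJ cs h T X J) k → extendByZero (PJ cs h T X J) α (k⁻¹ * (u : Y) * k) * conj (ψ u : ℂ) = 0 := by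
    intro u hu
    rw [Core.extendByZero_of_notMem (PJ cs h T X J) α (fun h1 => hu (mem_ds.2 h1)), zero_mul]
  rw [← Finset.sum_subset (Finset.subset_univ (Finset.univ.filter fun u : ↥(UJ cs h X Set.univ) => u ∈ ds (UJ cs h X Set.univ) (PJ cs h T X J) k))]
  · symm
    refine Finset.sum_bij (fun u _ => (e u : ↥(UJ cs h X Set.univ))) ?_ ?_ ?_ ?_
    · intro u _
      rw [Finset.mem_filter]
      exact ⟨Finset.mem_univ _, (e u).2⟩
    · intro u _ v _ huv
      exact e.injective (Subtype.ext huv)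
    · intro u hu
      rw [Finset.mem_filter] at hu
      exact ⟨e.symm ⟨u, hu.2⟩, Finset.mem_univ _, by rw [Equiv.apply_symm_apply]⟩
    · intro u _
      have e2 : k⁻¹ * (((e u : ↥(ds (UJ cs h X Set.univ) (PJ cs h T X J) k)) : ↥(UJ cs h X Set.univ)) : Y) * k = u := by
        change k⁻¹ * (k * (u : Y) * k⁻¹) * k = u
        group
      have hu1 : (u : Y) ∈ (PJ cs h T X J) := LJ_le_PJ (UJ_le_LJ u.2)
      have e3 : (η ∘ projL R J) ⟨(u : Y), hu1⟩ = η (Subgroup.inclusion UJ_le_LJ u) := by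
        change η (projL R J ⟨(u : Y), hu1⟩) = _
        rw [projL_L R (UJ_le_LJ u.2)]
        rfl
      rw [e2, Core.extendByZero_of_mem (PJ cs h T X J) α hu1, hαdef, e3]
      rfl
  · intro u _ hu
    refine hsupp u fun h1 => hu ?_
    rw [Finset.mem_filter]
    exact ⟨Finset.mem_univ _, h1⟩

end Cfsg.Agent.H148.GG
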