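import Cfsg.Agent.H148.GG.One

/-!
# S4884, helper148: (GG1), final form; anti-automorphisms

* `gg1` : the Gelfand-Graev characters of all the standard Levi subgroups are multiplicity free (`|T|` odd);
* `anti_of_w0` : the anti-automorphism `x ↦ k x⁻¹ k⁻¹`, `k` over `w₀`, if `w₀ = -1` inverts `T` and `T` has odd order;
* `anti_of_root` : the condition on the representatives follows from the others.
-/

set_option autoImplicit false
set_option linter.unusedSectionVars false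

open scoped ComplexConjugate
open Cfsg

namespace Cfsg.Agent.H148.GG

open CoxeterSystem Cfsg.Agent.ChevalleyStructure.CoxeterGeom Cfsg.Agent.Tits.Roots Cfsg.Agent.Tits.Core
  Cfsg.Agent.Tits.Exchange Cfsg.Agent.Nodes.Reps Cfsg.Agent.Nodes.BNOf Cfsg.Agent.Nodes.StabComb
  Cfsg.Agent.Nodes.Bruhat Cfsg.Agent.Nodes.OppDec Cfsg.Agent.Nodes.LeviDec Cfsg.Agent.H53.HC
  Cfsg.Agent.Characters.Core

variable {I W Y : Type*} [Fintype I] [DecidableEq I] [Group W] [Group Y] {M : CoxeterMatrix I}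
  {cs : CoxeterSystem M W} {A : I → I → ℤ} {h : IsCartan M A} {p : ℕ} {T : Subgroup Y} {n : I → Y}
  {X : (I → ℤ) → Subgroup Y}

theorem odd_of_card [Finite Y] (hT : Odd (Nat.card T)) (z : Y) (hz : z ∈ T) (hz2 : z * z = 1) : z = 1 := by
  have h1 : orderOf (⟨z, hz⟩ : T) ∣ Nat.card T := orderOf_dvd_natCard _
  have h2 : orderOf (⟨z, hz⟩ : T) ∣ 2 := orderOf_dvd_of_pow_eq_one (by
    rw [pow_two]; exact Subtype.ext hz2)
  have h3 : orderOf (⟨z, hz⟩ : T) ∣ 1 := by
    have h4 : Nat.Coprime 2 (Nat.card T) := hT.coprime_two_left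
    rw [← h4]
    exact Nat.dvd_gcd h2 h1
  have h5 := orderOf_eq_one_iff.1 (Nat.dvd_one.1 h3)
  exact congrArg Subtype.val h5

/-- **(GG1)** The Gelfand-Graev characters of the standard Levi subgroups are multiplicity free. -/
theorem gg1 [Finite W] [Fintype Y] (R : RGD cs h p T n X) {φ : Y → Y} (hφ : Anti R φ) {F : I → Type*}
    [∀ i, Field (F i)] [∀ i, Finite (F i)] (D : Adj T X F) (hT : Odd (Nat.card T)) (J : Set I)
    [Fintype ↥(LJ cs h T X J)] [Fintype ↥(UJ cs h X J)] {ψ : ↥(UJ cs h X J) →* ℂˣ} (hψ : Nd cs h X J ψ)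
    {χ : ↥(LJ cs h T X J) → ℂ} (hχ : IsIrrCharacter ↥(LJ cs h T X J) χ) :
    classInner (χ ∘ Subgroup.inclusion (UJ_le_LJ (cs := cs) (h := h) (T := T) (X := X) (J := J)))
        (fun u : ↥(UJ cs h X J) => (ψ u : ℂ)) = 0 ∨
      classInner (χ ∘ Subgroup.inclusion (UJ_le_LJ (cs := cs) (h := h) (T := T) (X := X) (J := J)))
        (fun u : ↥(UJ cs h X J) => (ψ u : ℂ)) = 1 := by
  obtain ⟨wj, hwj⟩ := exists_isLongest cs J
  obtain ⟨d, hd⟩ := exists_rp cs R.nsys wj
  exact mult_one_of_odd hφ hwj hd D (odd_of_card hT) hψ hχ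

/-- an element of `Y` which normalises `T` and all the root groups is in `T` -/
theorem mem_T_of_norm [Finite W] (R : RGD cs h p T n X) (hG : GG cs h T X = ⊤) {g : Y}
    (hX : ∀ x, IsRoot cs h x → ∀ u ∈ X x, g * u * g⁻¹ ∈ X x) (hgT : ∀ t ∈ T, g * t * g⁻¹ ∈ T)
    (hX' : ∀ x, IsRoot cs h x → ∀ u ∈ X x, g⁻¹ * u * g ∈ X x) (hgT' : ∀ t ∈ T, g⁻¹ * t * g ∈ T) : g ∈ T := by
  -- `g` normalises `B`
  have hB : ∀ b ∈ RGD.B cs h T X, g * b * g⁻¹ ∈ RGD.B cs h T X := by
    intro b hb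
    have h1 : RGD.B cs h T X ≤ (RGD.B cs h T X).comap (MulAut.conj g).toMonoidHom := by
      refine sup_le (fun t ht => ?_) (RGD.Sup_le fun x hx u hu => ?_)
      · exact RGD.T_le_B (hgT t ht)
      · exact RGD.X_le_B hx.1 hx.2 (hX x hx.1 u hu)
    exact h1 hb
  have hBN : ∀ b ∈ BN cs h T X, g * b * g⁻¹ ∈ BN cs h T X := by
    intro b hb
    have h1 : BN cs h T X ≤ (BN cs h T X).comap (MulAut.conj g).toMonoidHom := by
      refine sup_le (fun t ht => ?_) (RGD.Sup_le fun x hx u hu => ?_)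
      · exact T_le_BN (hgT t ht)
      · exact X_le_BN hx.1 hx.2 (hX x hx.1 u hu)
    exact h1 hb
  -- `g ∈ B`
  obtain ⟨w, b₁, hb₁, k, hk, b₂, hb₂, e⟩ := (mem_GG R).1 (show g ∈ GG cs h T X by rw [hG]; trivial)
  have hw : w = 1 := by
    refine eq_one_of_nonneg (cs := cs) (h := h) fun i => ?_
    rcases ((isRoot_sr cs h i).act w).pos_or_neg with h0 | h0
    · exact h0
    · exfalso
      obtain ⟨u, hu, hu1⟩ := exists_ne_one R i
      have huB : u ∈ RGD.B cs h T X := RGD.X_le_B (isRoot_sr cs h i) (sr_nonneg i) hu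
      -- `k u k⁻¹ ∈ B ∩ X (-)`
      have h1 : b₂⁻¹ * u * b₂ ∈ RGD.B cs h T X := mul_mem (mul_mem (inv_mem hb₂) huB) hb₂
      have h2 := hB _ h1
      have h3 : k * u * k⁻¹ ∈ RGD.B cs h T X := by
        have e3 : k * u * k⁻¹ = b₁⁻¹ * (g * (b₂⁻¹ * u * b₂) * g⁻¹) * b₁ := by rw [e]; group
        rw [e3]
        exact mul_mem (mul_mem (inv_mem hb₁) h2) hb₁
      have h4 : k * u * k⁻¹ ∈ X (rep cs h w (sr i)) := R.conj_mem hk (isRoot_sr cs h i) hu
      -- `X (neg) ∩ B = 1`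
      have h5 : k * u * k⁻¹ ∈ VNJ cs h X ∅ := by
        refine RGD.le_Sup (S := NotNJ cs h ∅) ?_ h4
        have h6 : IsRoot cs h (-rep cs h w (sr i)) := ((isRoot_sr cs h i).act w).neg
        have h7 : 0 ≤ -rep cs h w (sr i) := neg_nonneg.2 h0
        obtain ⟨l, hl⟩ : ∃ l, 0 < (-rep cs h w (sr i)) l := by
          by_contra hcon
          push Not at hcon
          exact h6.ne_zero (funext fun l => le_antisymm (hcon l) (h7 l))
        exact ⟨h6, h7, l, Set.notMem_empty l, hl⟩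
      have h6 : k * u * k⁻¹ = 1 := eq_one_of_mem_VNJ_of_mem_PJ R h5 (B_le_PJ h3)
      exact hu1 (by
        have e3 : u = k⁻¹ * (k * u * k⁻¹) * k := by group
        rw [e3, h6]; group)
  subst hw
  have hgB : g ∈ RGD.B cs h T X := by
    rw [e]
    exact mul_mem (mul_mem hb₁ (RGD.T_le_B hk.mem_of_one)) hb₂
  obtain ⟨t, ht, u, hu, e2⟩ := R.mem_B.1 hgB
  -- `u ∈ U` normalises `B⁻`
  have huN : ∀ b ∈ BN cs h T X, u * b * u⁻¹ ∈ BN cs h T X := by
    intro b hb
    have h1 := hBN b hb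
    have e3 : u * b * u⁻¹ = t⁻¹ * (g * b * g⁻¹) * t := by rw [e2]; group
    rw [e3]
    exact mul_mem (mul_mem (inv_mem (T_le_BN ht)) h1) (T_le_BN ht)
  -- conjugate by a representative of `w₀`
  obtain ⟨k0, hk0⟩ := exists_rp cs R.nsys (w0 cs)
  have hcj := cj_U R hk0
  have h1 : k0 * u * k0⁻¹ ∈ UN cs h X := by rw [← hcj]; exact conj_mem_cj.2 hu
  have h2 : k0 * u * k0⁻¹ ∈ RGD.B cs h T X := by
    -- it normalises `B`, in `G = B N B`
    set v := k0 * u * k0⁻¹ with hv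
    have hvB : ∀ b ∈ RGD.B cs h T X, v * b * v⁻¹ ∈ RGD.B cs h T X := by
      intro b hb
      have hcj' := cj_UN R hk0
      have hcT := cj_T R hk0
      have h3 : k0⁻¹ * b * k0 ∈ BN cs h T X := by
        have hk0' : Rp cs R.nsys (w0 cs) k0⁻¹ := by
          have := hk0.inv
          rwa [w0_inv] at this
        obtain ⟨t', ht', u', hu', e4⟩ := R.mem_B.1 hb
        have e5 : k0⁻¹ * b * k0 = (k0⁻¹ * t' * k0⁻¹⁻¹) * (k0⁻¹ * u' * k0⁻¹⁻¹) := by rw [e4]; group
        rw [e5]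
        refine mul_mem (T_le_BN ?_) (UN_le_BN ?_)
        · have := cj_T R hk0'
          rw [← this]
          exact conj_mem_cj.2 ht'
        · have := cj_U R hk0'
          rw [← this]
          exact conj_mem_cj.2 hu'
      have h4 := huN _ h3
      have e6 : v * b * v⁻¹ = k0 * (u * (k0⁻¹ * b * k0) * u⁻¹) * k0⁻¹ := by rw [hv]; group
      rw [e6]
      have h5 : ∀ y ∈ BN cs h T X, k0 * y * k0⁻¹ ∈ RGD.B cs h T X := by
        intro y hy
        have h6 : BN cs h T X ≤ (RGD.B cs h T X).comap (MulAut.conj k0).toMonoidHom := by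
          refine sup_le (fun t ht => ?_) (fun u hu => ?_)
          · change k0 * t * k0⁻¹ ∈ RGD.B cs h T X
            refine RGD.T_le_B ?_
            rw [← hcT]
            exact conj_mem_cj.2 ht
          · change k0 * u * k0⁻¹ ∈ RGD.B cs h T X
            refine RGD.U_le_B ?_
            rw [← hcj']
            exact conj_mem_cj.2 hu
        exact h6 hy
      exact h5 _ h4
    -- as above
    obtain ⟨w, b₁, hb₁, k, hk, b₂, hb₂, e⟩ := (mem_GG R).1 (show v ∈ GG cs h T X by rw [hG]; trivial)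
    have hw : w = 1 := by
      refine eq_one_of_nonneg (cs := cs) (h := h) fun i => ?_
      rcases ((isRoot_sr cs h i).act w).pos_or_neg with h0 | h0
      · exact h0
      · exfalso
        obtain ⟨u, hu, hu1⟩ := exists_ne_one R i
        have huB : u ∈ RGD.B cs h T X := RGD.X_le_B (isRoot_sr cs h i) (sr_nonneg i) hu
        have h1 : b₂⁻¹ * u * b₂ ∈ RGD.B cs h T X := mul_mem (mul_mem (inv_mem hb₂) huB) hb₂
        have h2 := hvB _ h1
        have h3 : k * u * k⁻¹ ∈ RGD.B cs h T X := by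
          have e3 : k * u * k⁻¹ = b₁⁻¹ * (v * (b₂⁻¹ * u * b₂) * v⁻¹) * b₁ := by rw [e]; group
          rw [e3]
          exact mul_mem (mul_mem (inv_mem hb₁) h2) hb₁
        have h4 : k * u * k⁻¹ ∈ X (rep cs h w (sr i)) := R.conj_mem hk (isRoot_sr cs h i) hu
        have h5 : k * u * k⁻¹ ∈ VNJ cs h X ∅ := by
          refine RGD.le_Sup (S := NotNJ cs h ∅) ?_ h4
          have h6 : IsRoot cs h (-rep cs h w (sr i)) := ((isRoot_sr cs h i).act w).neg
          have h7 : 0 ≤ -rep cs h w (sr i) := neg_nonneg.2 h0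
          obtain ⟨l, hl⟩ : ∃ l, 0 < (-rep cs h w (sr i)) l := by
            by_contra hcon
            push Not at hcon
            exact h6.ne_zero (funext fun l => le_antisymm (hcon l) (h7 l))
          exact ⟨h6, h7, l, Set.notMem_empty l, hl⟩
        have h6 : k * u * k⁻¹ = 1 := eq_one_of_mem_VNJ_of_mem_PJ R h5 (B_le_PJ h3)
        exact hu1 (by
          have e3 : u = k⁻¹ * (k * u * k⁻¹) * k := by group
          rw [e3, h6]; group)
    subst hw
    rw [e]
    exact mul_mem (mul_mem hb₁ (RGD.T_le_B hk.mem_of_one)) hb₂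
  -- `k0 u k0⁻¹ ∈ U⁻ ∩ B = 1`
  have h3 : k0 * u * k0⁻¹ = 1 := by
    refine eq_one_of_mem_VNJ_of_mem_PJ R (J := ∅) ?_ (B_le_PJ h2)
    refine (RGD.Sup_mono (S := Neg cs h) (S' := NotNJ cs h ∅) ?_) h1
    intro x hx
    obtain ⟨l, hl⟩ : ∃ l, 0 < (-x) l := by
      by_contra hcon
      push Not at hcon
      exact hx.1.neg.ne_zero (funext fun l => le_antisymm (hcon l) (neg_nonneg.2 hx.2 l))
    exact ⟨hx.1.neg, neg_nonneg.2 hx.2, l, Set.notMem_empty l, hl⟩
  have h4 : u = 1 := by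
    have e3 : u = k0⁻¹ * (k0 * u * k0⁻¹) * k0 := by group
    rw [e3, h3]; group
  rw [e2, h4, mul_one]
  exact ht

/-- the condition on the representatives of the reflections follows from the other ones -/
theorem anti_of_root [Finite W] (R : RGD cs h p T n X) (hG : GG cs h T X = ⊤) {φ : Y → Y}
    (hmul : ∀ x y, φ (x * y) = φ y * φ x) (hsq : ∀ x, φ (φ x) = x) (htor : ∀ t ∈ T, φ t = t)
    (hroot : ∀ x, IsRoot cs h x → ∀ u ∈ X x, φ u ∈ X (-x)) : Anti R φ := by
  refine ⟨hmul, hsq, htor, hroot, fun i => ?_⟩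
  have hinv : ∀ x, φ x⁻¹ = (φ x)⁻¹ := by
    intro x
    rw [eq_inv_iff_mul_eq_one, ← hmul, mul_inv_cancel, htor 1 (one_mem T)]
  have hnT : ∀ t ∈ T, n i * t * (n i)⁻¹ ∈ T := fun t ht =>
    (Subgroup.mem_normalizer_iff.1 (R.nsys.norm i) t).1 ht
  have hnT' : ∀ t ∈ T, (n i)⁻¹ * t * n i ∈ T := fun t ht =>
    (Subgroup.mem_normalizer_iff''.1 (R.nsys.norm i) t).1 ht
  have hr := rp_simple cs R.nsys i
  have hnX : ∀ x, IsRoot cs h x → ∀ u ∈ X x, n i * u * (n i)⁻¹ ∈ X (rep cs h (cs.simple i) x) :=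
    fun x hx u hu => R.conj_mem hr hx hu
  have hnX' : ∀ x, IsRoot cs h x → ∀ u ∈ X x, (n i)⁻¹ * u * n i ∈ X (rep cs h (cs.simple i) x) := by
    intro x hx u hu
    have := R.conj_mem' hr hx hu
    rwa [cs.inv_simple] at this
  have hss : ∀ x : I → ℤ, rep cs h (cs.simple i) (rep cs h (cs.simple i) x) = x := by
    intro x
    rw [← rep_mul_apply, cs.simple_mul_simple_self, map_one, Module.End.one_apply]
  -- `φ (n i)` permutes the root groups in the same way
  have hpX : ∀ x, IsRoot cs h x → ∀ u ∈ X x, φ (n i) * u * (φ (n i))⁻¹ ∈ X (rep cs h (cs.simple i) x) := by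
    intro x hx u hu
    have h1 := hnX' _ hx.neg _ (hroot x hx u hu)
    have h2 := hroot _ (hx.neg.act _) _ h1
    rw [hmul, hmul, hinv, hsq, map_neg, neg_neg] at h2
    rwa [mul_assoc]
  have hpX' : ∀ x, IsRoot cs h x → ∀ u ∈ X x, (φ (n i))⁻¹ * u * φ (n i) ∈ X (rep cs h (cs.simple i) x) := by
    intro x hx u hu
    have h1 := hnX _ hx.neg _ (hroot x hx u hu)
    have h2 := hroot _ (hx.neg.act _) _ h1
    rw [hmul, hmul, hinv, hsq, map_neg, neg_neg] at h2
    rwa [mul_assoc]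
  have hpT : ∀ t ∈ T, φ (n i) * t * (φ (n i))⁻¹ ∈ T := by
    intro t ht
    have h1 := hnT' t ht
    have h2 : φ ((n i)⁻¹ * t * n i) ∈ T := by rw [htor _ h1]; exact h1
    rw [hmul, hmul, hinv, htor t ht] at h2
    rwa [mul_assoc]
  have hpT' : ∀ t ∈ T, (φ (n i))⁻¹ * t * φ (n i) ∈ T := by
    intro t ht
    have h1 := hnT t ht
    have h2 : φ (n i * t * (n i)⁻¹) ∈ T := by rw [htor _ h1]; exact h1
    rw [hmul, hmul, hinv, htor t ht] at h2
    rwa [mul_assoc]
  have hg : φ (n i) * (n i)⁻¹ ∈ T := by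
    refine mem_T_of_norm R hG ?_ ?_ ?_ ?_
    · intro x hx u hu
      have h1 := hpX _ (hx.act _) _ (hnX' x hx u hu)
      rw [hss] at h1
      have e : φ (n i) * (n i)⁻¹ * u * (φ (n i) * (n i)⁻¹)⁻¹ = φ (n i) * ((n i)⁻¹ * u * n i) * (φ (n i))⁻¹ := by group
      rwa [e]
    · intro t ht
      have h1 := hpT _ (hnT' t ht)
      have e : φ (n i) * (n i)⁻¹ * t * (φ (n i) * (n i)⁻¹)⁻¹ = φ (n i) * ((n i)⁻¹ * t * n i) * (φ (n i))⁻¹ := by group
      rwa [e]
    · intro x hx u hu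
      have h1 := hnX _ (hx.act _) _ (hpX' x hx u hu)
      rw [hss] at h1
      have e : (φ (n i) * (n i)⁻¹)⁻¹ * u * (φ (n i) * (n i)⁻¹) = n i * ((φ (n i))⁻¹ * u * φ (n i)) * (n i)⁻¹ := by group
      rwa [e]
    · intro t ht
      have h1 := hnT _ (hpT' t ht)
      have e : (φ (n i) * (n i)⁻¹)⁻¹ * t * (φ (n i) * (n i)⁻¹) = n i * ((φ (n i))⁻¹ * t * φ (n i)) * (n i)⁻¹ := by group
      rwa [e]
  have h1 := (rp_of_mem (cs := cs) (hN := R.nsys) hg).mul hr
  rw [one_mul] at h1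
  have e : φ (n i) * (n i)⁻¹ * n i = φ (n i) := by group
  rwa [e] at h1

/-- **the anti-automorphism if `w₀ = -1` inverts `T` and `T` has odd order** -/
theorem anti_of_w0 [Finite W] [Finite Y] (R : RGD cs h p T n X) (hT : Odd (Nat.card T)) {k : Y}
    (hk : Rp cs R.nsys (w0 cs) k) (hinv : ∀ t ∈ T, k * t * k⁻¹ = t⁻¹) (hneg : ∀ i, rep cs h (w0 cs) (sr i) = -sr i) :
    Anti R (fun x => k * x⁻¹ * k⁻¹) := by
  have hkk : k * k = 1 := by
    have h1 : Rp cs R.nsys (w0 cs * w0 cs) (k * k) := hk.mul hk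
    have h2 : k * k ∈ T := by
      rw [(isLongest_w0 cs).mul_self] at h1
      exact h1.mem_of_one
    have h3 := hinv _ h2
    have h4 : k * (k * k) * k⁻¹ = k * k := by group
    rw [h4, eq_inv_iff_mul_eq_one] at h3
    exact odd_of_card hT _ h2 h3
  have hki : k⁻¹ = k := inv_eq_of_mul_eq_one_left hkk
  have hneg' : ∀ x : I → ℤ, rep cs h (w0 cs) x = -x := by
    intro x
    rw [rep_sum]
    conv_rhs => rw [eq_sum_sr x, ← Finset.sum_neg_distrib]
    exact Finset.sum_congr rfl fun i _ => by rw [hneg, smul_neg]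
  refine ⟨fun x y => by group, fun x => ?_, fun t ht => ?_, fun x hx u hu => ?_, fun i => ?_⟩
  · simp only [mul_inv_rev, inv_inv, hki]
    calc k * (k * (x * k)) * k = (k * k) * x * (k * k) := by group
      _ = x := by rw [hkk, one_mul, mul_one]
  · change k * t⁻¹ * k⁻¹ = t
    rw [hinv _ (inv_mem ht), inv_inv]
  · have h1 := R.conj_mem hk hx (inv_mem hu)
    rwa [hneg'] at h1
  · have h1 := (hk.mul (rp_simple cs R.nsys i).inv).mul hk.inv
    rw [cs.inv_simple] at h1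
    have e : w0 cs * cs.simple i * (w0 cs)⁻¹ = cs.simple i := by
      have h2 : w0 cs * cs.simple i * (w0 cs)⁻¹ * (cs.simple i)⁻¹ = 1 := by
        refine eq_one_of_nonneg (cs := cs) (h := h) fun j => ?_
        have h3 : rep cs h (w0 cs * cs.simple i * (w0 cs)⁻¹ * (cs.simple i)⁻¹) (sr j) = sr j := by
          rw [w0_inv, rep_mul_apply, rep_mul_apply, rep_mul_apply, hneg', hneg', map_neg, neg_neg, rep_apply_inv]
        rw [h3]
        exact sr_nonneg j
      exact mul_inv_eq_one.1 h2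
    rwa [e] at h1

end Cfsg.Agent.H148.GG
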