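import Cfsg.Agent.H148.GG.FThree

/-!
# S4884, helper148: (GG2) `∏ |F i| ≤ [Γ, Γ]`

* `le_classInner_self` : `[Ind ψ, Ind ψ]` is at least the number of compatible double cosets;
* `exists_cpt` : there is a compatible element over `w₀ w_K` for every set `K` of nodes;
* `gg2` : `∏ |F i| ≤ [Γ, Γ]`.
-/

set_option autoImplicit false
set_option linter.unusedSectionVars false

open scoped ComplexConjugate
open Cfsg

namespace Cfsg.Agent.H148.GG

section Mackey

open Cfsg.Agent.OddOrderCharacters.Clifford Cfsg.Agent.Characters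

variable {G : Type*} [Group G]

/-- compatible elements -/
def Cp (U : Subgroup G) (ψ : ↥U →* ℂˣ) (x : G) : Prop :=
  ∀ (u : G) (hu : u ∈ U) (hu' : x⁻¹ * u * x ∈ U), ψ ⟨u, hu⟩ = ψ ⟨x⁻¹ * u * x, hu'⟩

theorem mul_conj_eq_one {U : Type*} [Group U] [Finite U] (ψ : U →* ℂˣ) (u : U) : (ψ u : ℂ) * conj (ψ u : ℂ) = 1 := by
  have h1 : (ψ u : ℂ) ^ orderOf u = 1 := by
    rw [← Units.val_pow_eq_pow_val, ← map_pow, pow_orderOf_eq_one, map_one, Units.val_one]
  have h2 : ‖(ψ u : ℂ)‖ = 1 := Complex.norm_eq_one_of_pow_eq_one h1 (orderOf_pos u).ne'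
  rw [Complex.mul_conj, Complex.normSq_eq_norm_sq, h2]
  norm_num

theorem mk_self_of_cp (U : Subgroup G) [Fintype ↥U] (ψ : ↥U →* ℂˣ) {x : G} (hx : Cp U ψ x) [Fintype (ds U U x)] :
    mk U U (fun u : ↥U => (ψ u : ℂ)) ψ x = (Fintype.card (ds U U x) : ℂ) := by
  classical
  have h1 : ∀ u : ↥U, extendByZero U (fun u : ↥U => (ψ u : ℂ)) (x⁻¹ * (u : G) * x) * conj (ψ u : ℂ) =
      if u ∈ ds U U x then 1 else 0 := by
    intro u
    by_cases hu : x⁻¹ * (u : G) * x ∈ U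
    · rw [Core.extendByZero_of_mem U _ hu, if_pos (mem_ds.2 hu), ← hx u u.2 hu]
      exact mul_conj_eq_one ψ u
    · rw [Core.extendByZero_of_notMem U _ hu, zero_mul, if_neg (fun h => hu (mem_ds.1 h))]
  unfold mk
  rw [Finset.sum_congr rfl fun u _ => h1 u, ← Finset.sum_filter, Finset.sum_const, nsmul_eq_mul, mul_one]
  congr 1
  rw [Fintype.card_subtype]

theorem mk_self_of_not_cp (U : Subgroup G) [Fintype ↥U] (ψ : ↥U →* ℂˣ) {x : G} (hx : ¬ Cp U ψ x) :
    mk U U (fun u : ↥U => (ψ u : ℂ)) ψ x = 0 := by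
  unfold Cp at hx
  push Not at hx
  obtain ⟨v, hv, hv', hne⟩ := hx
  set c : ℂ := (ψ ⟨x⁻¹ * v * x, hv'⟩ : ℂ) * conj (ψ ⟨v, hv⟩ : ℂ) with hc
  have hkey : c * mk U U (fun u : ↥U => (ψ u : ℂ)) ψ x = mk U U (fun u : ↥U => (ψ u : ℂ)) ψ x := by
    unfold mk
    rw [Finset.mul_sum]
    refine Fintype.sum_equiv (Equiv.mulRight (⟨v, hv⟩ : ↥U)) _ _ fun u => ?_
    have e1 : x⁻¹ * (((Equiv.mulRight (⟨v, hv⟩ : ↥U)) u : ↥U) : G) * x = (x⁻¹ * (u : G) * x) * (x⁻¹ * v * x) := by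
      change x⁻¹ * ((u : G) * v) * x = _
      group
    have e2 : ψ ((Equiv.mulRight (⟨v, hv⟩ : ↥U)) u) = ψ u * ψ ⟨v, hv⟩ := map_mul ψ _ _
    rw [e1, e2]
    by_cases hu : x⁻¹ * (u : G) * x ∈ U
    · rw [Core.extendByZero_of_mem U _ hu, Core.extendByZero_of_mem U _ (mul_mem hu hv')]
      have e3 : (⟨(x⁻¹ * (u : G) * x) * (x⁻¹ * v * x), mul_mem hu hv'⟩ : ↥U) =
          ⟨x⁻¹ * (u : G) * x, hu⟩ * ⟨x⁻¹ * v * x, hv'⟩ := rfl
      rw [e3, map_mul, Units.val_mul, Units.val_mul, map_mul, hc]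
      ring
    · rw [Core.extendByZero_of_notMem U _ hu, Core.extendByZero_of_notMem]
      · rw [zero_mul, zero_mul, mul_zero]
      · intro h1
        apply hu
        have : x⁻¹ * (u : G) * x = (x⁻¹ * (u : G) * x) * (x⁻¹ * v * x) * (x⁻¹ * v * x)⁻¹ := by group
        rw [this]
        exact mul_mem h1 (inv_mem hv')
  by_contra h0
  have h1 : c = 1 := mul_right_cancel₀ h0 (by rw [hkey, one_mul])
  apply hne
  apply Units.ext
  have h2 := mul_conj_eq_one ψ (⟨v, hv⟩ : ↥U)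
  calc (ψ ⟨v, hv⟩ : ℂ) = c * (ψ ⟨v, hv⟩ : ℂ) := by rw [h1, one_mul]
    _ = (ψ ⟨x⁻¹ * v * x, hv'⟩ : ℂ) * ((ψ ⟨v, hv⟩ : ℂ) * conj (ψ ⟨v, hv⟩ : ℂ)) := by rw [hc]; ring
    _ = _ := by rw [h2, mul_one]

theorem mk_self_re (U : Subgroup G) [Fintype ↥U] (ψ : ↥U →* ℂˣ) (x : G) :
    0 ≤ (mk U U (fun u : ↥U => (ψ u : ℂ)) ψ x).re := by
  classical
  have : Fintype (ds U U x) := Fintype.ofFinite _
  by_cases hx : Cp U ψ x
  · rw [mk_self_of_cp U ψ hx, Complex.natCast_re]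
    positivity
  · rw [mk_self_of_not_cp U ψ hx, Complex.zero_re]

/-- `[Ind ψ, Ind ψ]` is at least the number of compatible double cosets -/
theorem le_classInner_self [Fintype G] (U : Subgroup G) (ψ : ↥U →* ℂˣ) {ι : Type*} [Fintype ι] (s : ι → G)
    (hs : ∀ i, Cp U ψ (s i)) (hd : ∀ i j, DC2 U U (s i) (s j) → i = j) :
    (Fintype.card ι : ℝ) ≤
      (classInner (indFun U fun u : ↥U => (ψ u : ℂ)) (indFun U fun u : ↥U => (ψ u : ℂ))).re := by
  classical
  have : Fintype ↥U := Fintype.ofFinite _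
  have hU : (Nat.card U : ℂ) ≠ 0 := by
    have : 0 < Nat.card U := Nat.card_pos
    exact_mod_cast this.ne'
  have hU' : (0 : ℝ) < (Nat.card U : ℝ) := by
    have : 0 < Nat.card U := Nat.card_pos
    exact_mod_cast this
  set α : ↥U → ℂ := fun u : ↥U => (ψ u : ℂ) with hα
  have hαc : IsClassFunction ↥U α := by
    intro x g
    rw [hα]
    change (ψ (g * x * g⁻¹) : ℂ) = ψ x
    rw [map_mul, map_mul, map_inv, mul_comm (ψ g), mul_assoc, mul_inv_cancel, mul_one]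
  have h1 : ∑ u : ↥U, conj (indFun U α (u : G)) * α u = conj ((Nat.card U : ℂ)⁻¹ * ∑ x : G, mk U U α ψ x) := by
    unfold mk
    rw [Finset.sum_comm, Finset.mul_sum, map_sum]
    refine Finset.sum_congr rfl fun u _ => ?_
    rw [indFun_apply, map_mul, map_mul, map_sum, map_sum, mul_assoc, Finset.sum_mul]
    congr 1
    refine Finset.sum_congr rfl fun x _ => ?_
    rw [map_mul, Complex.conj_conj]
  have h2 : classInner (indFun U α) (indFun U α) =
      (Nat.card U : ℂ)⁻¹ * conj ((Nat.card U : ℂ)⁻¹ * ∑ x : G, mk U U α ψ x) := by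
    rw [classInner_indFun U α (indFun U α) (isClassFunction_indFun U α), Core.classInner_def, ← h1]
    congr 1
    refine Finset.sum_congr rfl fun u _ => ?_
    rw [mul_comm]
  -- the double cosets
  let F : ι → G → ℂ := fun i x => if DC2 U U (s i) x then mk U U α ψ x else 0
  have hF : ∀ i, ∑ x : G, F i x = (Nat.card U : ℂ) * (Nat.card U : ℂ) := by
    intro i
    have : Fintype (ds U U (s i)) := Fintype.ofFinite _
    have hself : DC2 U U (s i) (s i) := ⟨1, one_mem _, 1, one_mem _, by rw [one_mul, mul_one]⟩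
    rw [sum_dc U U (s i) (F i) ?_ ?_]
    · simp only [F]
      rw [if_pos hself, hα, mk_self_of_cp U ψ (hs i), inv_mul_cancel₀, mul_one]
      have : 0 < Fintype.card (ds U U (s i)) := Fintype.card_pos
      exact_mod_cast this.ne'
    · rintro x ⟨a, ha, b, hb, rfl⟩
      simp only [F]
      rw [if_pos ⟨a, ha, b, hb, rfl⟩, if_pos hself]
      exact mk_mul U U hαc ψ ha hb _
    · intro x hx
      simp only [F]
      rw [if_neg hx]
  have hle : ∀ x, ∑ i, (F i x).re ≤ (mk U U α ψ x).re := by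
    intro x
    by_cases hx : ∃ i, DC2 U U (s i) x
    · obtain ⟨i, hi⟩ := hx
      rw [Finset.sum_eq_single i]
      · simp only [F]
        rw [if_pos hi]
      · intro j _ hj
        simp only [F]
        rw [if_neg, Complex.zero_re]
        intro hj'
        apply hj
        apply hd
        obtain ⟨a, ha, b, hb, e⟩ := hi
        obtain ⟨a', ha', b', hb', e'⟩ := hj'
        refine ⟨a⁻¹ * a', mul_mem (inv_mem ha) ha', b' * b⁻¹, mul_mem hb' (inv_mem hb), ?_⟩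
        have h3 : a * s i * b = a' * s j * b' := by rw [← e, ← e']
        calc s i = a⁻¹ * (a * s i * b) * b⁻¹ := by group
          _ = a⁻¹ * (a' * s j * b') * b⁻¹ := by rw [h3]
          _ = _ := by group
      · intro h
        exact absurd (Finset.mem_univ i) h
    · push Not at hx
      rw [Finset.sum_eq_zero]
      · exact mk_self_re U ψ x
      · intro i _
        simp only [F]
        rw [if_neg (hx i), Complex.zero_re]
  have hsum : (Fintype.card ι : ℝ) * ((Nat.card U : ℝ) * (Nat.card U : ℝ)) ≤ (∑ x : G, mk U U α ψ x).re := by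
    have h3 : ∑ i : ι, (∑ x : G, F i x).re = (Fintype.card ι : ℝ) * ((Nat.card U : ℝ) * (Nat.card U : ℝ)) := by
      rw [Finset.sum_congr rfl fun i _ => by rw [hF i]]
      rw [Finset.sum_const, Finset.card_univ, nsmul_eq_mul]
      congr 1
      rw [← Nat.cast_mul, Complex.natCast_re, Nat.cast_mul]
    rw [← h3]
    calc ∑ i : ι, (∑ x : G, F i x).re = ∑ i : ι, ∑ x : G, (F i x).re :=
          Finset.sum_congr rfl fun i _ => Complex.re_sum _ _
      _ = ∑ x : G, ∑ i : ι, (F i x).re := Finset.sum_comm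
      _ ≤ ∑ x : G, (mk U U α ψ x).re := Finset.sum_le_sum fun x _ => hle x
      _ = _ := (Complex.re_sum _ _).symm
  have h4 : (classInner (indFun U α) (indFun U α)).re =
      (Nat.card U : ℝ)⁻¹ * ((Nat.card U : ℝ)⁻¹ * (∑ x : G, mk U U α ψ x).re) := by
    rw [h2]
    have e1 : ((Nat.card U : ℂ)⁻¹) = (((Nat.card U : ℝ)⁻¹ : ℝ) : ℂ) := by push_cast; rfl
    rw [e1, Complex.re_ofReal_mul, Complex.conj_re, Complex.re_ofReal_mul]
  rw [h4, ← mul_assoc]
  have h5 : (0 : ℝ) < (Nat.card U : ℝ)⁻¹ * (Nat.card U : ℝ)⁻¹ := by positivity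
  calc (Fintype.card ι : ℝ) = (Nat.card U : ℝ)⁻¹ * (Nat.card U : ℝ)⁻¹ *
        ((Fintype.card ι : ℝ) * ((Nat.card U : ℝ) * (Nat.card U : ℝ))) := by field_simp
    _ ≤ _ := mul_le_mul_of_nonneg_left hsum h5.le

end Mackey

open CoxeterSystem Cfsg.Agent.ChevalleyStructure.CoxeterGeom Cfsg.Agent.Tits.Roots Cfsg.Agent.Tits.Core
  Cfsg.Agent.Tits.Exchange Cfsg.Agent.Nodes.Reps Cfsg.Agent.Nodes.BNOf Cfsg.Agent.Nodes.StabComb
  Cfsg.Agent.Nodes.Bruhat Cfsg.Agent.Nodes.OppDec Cfsg.Agent.Nodes.LeviDec Cfsg.Agent.H53.HC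
  Cfsg.Agent.Characters Cfsg.Agent.H641.Gow

variable {I W Y : Type*} [Fintype I] [DecidableEq I] [Group W] [Group Y] {M : CoxeterMatrix I}
  {cs : CoxeterSystem M W} {A : I → I → ℤ} {h : IsCartan M A} {p : ℕ} {T : Subgroup Y} {n : I → Y}
  {X : (I → ℤ) → Subgroup Y}

theorem UJ_le_U {J : Set I} : UJ cs h X J ≤ UJ cs h X Set.univ :=
  RGD.Sup_mono fun _ hx => ⟨hx.1, hx.2.1, fun k hk => absurd (Set.mem_univ k) hk⟩

theorem Nd.res {J : Set I} {ψ : ↥(UJ cs h X Set.univ) →* ℂˣ} (hψ : Nd cs h X Set.univ ψ) :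
    Nd cs h X J (ψ.comp (Subgroup.inclusion UJ_le_U)) := by
  refine ⟨fun x hx hxs u hu' hu => ?_, fun i hi => ?_⟩
  · exact hψ.triv x ⟨hx.1, hx.2.1, fun k hk => absurd (Set.mem_univ k) hk⟩ hxs u (UJ_le_U hu') hu
  · obtain ⟨u, hu', hu, hne⟩ := hψ.ne i (Set.mem_univ i)
    exact ⟨u, X_le_UJ (sr_mem_PosJ hi) hu, hu, hne⟩

variable (R : RGD cs h p T n X)

include R

/-- the conjugate character -/
def psiK [Finite W] {J : Set I} {wj : W} (hwj : IsLongest cs J wj) {k : Y} (hk : Rp cs R.nsys (w0 cs * wj) k)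
    (ψ : ↥(UJ cs h X Set.univ) →* ℂˣ) : ↥(UJ cs h X J) →* ℂˣ where
  toFun u := ψ ⟨k * u * k⁻¹, conj_mem_U R hwj hk u.2⟩
  map_one' := by
    have e2 : (⟨k * ((1 : ↥(UJ cs h X J)) : Y) * k⁻¹, conj_mem_U R hwj hk (1 : ↥(UJ cs h X J)).2⟩ :
        ↥(UJ cs h X Set.univ)) = 1 := Subtype.ext (by
      change k * ((1 : ↥(UJ cs h X J)) : Y) * k⁻¹ = 1
      rw [Subgroup.coe_one, mul_one, mul_inv_cancel])
    rw [e2, map_one]
  map_mul' u v := by
    rw [← map_mul]
    congr 1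
    apply Subtype.ext
    change k * ((u * v : ↥(UJ cs h X J)) : Y) * k⁻¹ = (k * (u : Y) * k⁻¹) * (k * (v : Y) * k⁻¹)
    rw [Subgroup.coe_mul]
    group

theorem psiK_nd [Finite W] {J : Set I} {wj : W} (hwj : IsLongest cs J wj) {k : Y}
    (hk : Rp cs R.nsys (w0 cs * wj) k) {ψ : ↥(UJ cs h X Set.univ) →* ℂˣ} (hψ : Nd cs h X Set.univ ψ) :
    Nd cs h X J (psiK R hwj hk ψ) := by
  refine ⟨fun x hx hxs u hu' hu => ?_, fun i hi => ?_⟩
  · have h1 : k * u * k⁻¹ ∈ X (rep cs h (w0 cs * wj) x) := R.conj_mem hk hx.1 hu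
    have h2 : rep cs h (w0 cs * wj) x ∈ PosJ cs h Set.univ :=
      ⟨hx.1.act _, rep_w0wj_nonneg hwj hx, fun l hl => absurd (Set.mem_univ l) hl⟩
    refine hψ.triv _ h2 (fun i hi => ?_) _ (conj_mem_U R hwj hk hu') h1
    obtain ⟨l, -, hl⟩ := longest_simple (h := h) (isLongest_w0 cs) (Set.mem_univ i)
    -- `x = w_J w₀ α_i = - w_J α_l`
    have h3 : x = -rep cs h wj (sr l) := by
      have h4 : x = rep cs h (w0 cs * wj)⁻¹ (sr i) := by rw [← hi, rep_inv_apply]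
      rw [h4, mul_inv_rev, w0_inv, IsLongest.inv_eq hwj, rep_mul_apply, hl, map_neg]
    by_cases hlJ : l ∈ J
    · obtain ⟨l', -, hl'⟩ := longest_simple (h := h) hwj hlJ
      rw [hl', neg_neg] at h3
      exact hxs l' h3
    · have h4 : 0 ≤ rep cs h wj (sr l) := (NotJ.act hwj.1 (sr_mem_NotJ hlJ)).2.1
      have h5 : x ≤ 0 := by rw [h3]; exact neg_nonpos.2 h4
      exact hx.1.not_pos_neg hx.2.1 h5
  · obtain ⟨i₁, hi₁, e₁⟩ := longest_simple (h := h) hwj hi
    obtain ⟨i₂, -, e₂⟩ := longest_simple (h := h) (isLongest_w0 cs) (Set.mem_univ i₁)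
    obtain ⟨y, hy', hy, hne⟩ := hψ.ne i₂ (Set.mem_univ i₂)
    have h1 : rep cs h (w0 cs * wj)⁻¹ (sr i₂) = sr i := by
      have h2 : rep cs h (w0 cs * wj) (sr i) = sr i₂ := by rw [rep_mul_apply, e₁, map_neg, e₂, neg_neg]
      rw [← h2, rep_inv_apply]
    have h2 : k⁻¹ * y * k ∈ X (sr i) := by
      have := R.conj_mem' hk (isRoot_sr cs h i₂) hy
      rwa [h1] at this
    refine ⟨k⁻¹ * y * k, X_le_UJ (sr_mem_PosJ hi) h2, h2, ?_⟩
    intro h3
    apply hne
    rw [← h3]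
    change ψ ⟨y, hy'⟩ = ψ ⟨k * (k⁻¹ * y * k) * k⁻¹, _⟩
    congr 1
    apply Subtype.ext
    change y = k * (k⁻¹ * y * k) * k⁻¹
    group

/-- **compatible elements over `w₀ w_K`** -/
theorem exists_cpt [Finite W] {F : I → Type*} [∀ i, Field (F i)] [∀ i, Finite (F i)] (D : Adj T X F) {J : Set I}
    {wj : W} (hwj : IsLongest cs J wj) {ψ : ↥(UJ cs h X Set.univ) →* ℂˣ} (hψ : Nd cs h X Set.univ ψ) :
    ∃ k, ∃ hk : Rp cs R.nsys (w0 cs * wj) k, psiK R hwj hk ψ = ψ.comp (Subgroup.inclusion UJ_le_U) := by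
  obtain ⟨k, hk⟩ := exists_rp cs R.nsys (w0 cs * wj)
  obtain ⟨t, ht, hc⟩ := (psiK_nd R hwj hk hψ).exists_conj R D hψ.res
  have hk' : Rp cs R.nsys (w0 cs * wj) (k * t) := by
    have := hk.mul (rp_of_mem (cs := cs) (hN := R.nsys) ht)
    rwa [mul_one] at this
  refine ⟨k * t, hk', ?_⟩
  ext u
  congr 1
  rw [hc u u.2]
  change ψ ⟨k * t * u * (k * t)⁻¹, _⟩ = ψ ⟨k * (t * u * t⁻¹) * k⁻¹, _⟩
  congr 1
  apply Subtype.ext
  change k * t * (u : Y) * (k * t)⁻¹ = k * (t * u * t⁻¹) * k⁻¹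
  group

theorem cp_of_psiK [Finite W] {J : Set I} {wj : W} (hwj : IsLongest cs J wj) {k : Y}
    (hk : Rp cs R.nsys (w0 cs * wj) k) {ψ : ↥(UJ cs h X Set.univ) →* ℂˣ}
    (he : psiK R hwj hk ψ = ψ.comp (Subgroup.inclusion UJ_le_U)) : Cp (UJ cs h X Set.univ) ψ k := by
  intro u hu hu'
  have hB : k⁻¹ * u * k ∈ PJ cs h T X J := by
    have h1 : k⁻¹ * u * k ∈ RGD.B cs h T X := by
      rw [← BJ_univ]
      exact UJ_le_BJ hu'
    exact B_le_PJ h1
  have h1 := conj_mem_UJ R hwj hk hu hB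
  have h2 := DFunLike.congr_fun he ⟨_, h1⟩
  change ψ ⟨k * (k⁻¹ * u * k) * k⁻¹, _⟩ = ψ ⟨k⁻¹ * u * k, _⟩ at h2
  rw [← h2]
  congr 1
  apply Subtype.ext
  change u = k * (k⁻¹ * u * k) * k⁻¹
  group

/-- multiplication by an element of the torus centralising the simple root groups of `J` -/
theorem psiK_mul [Finite W] {J : Set I} {wj : W} (hwj : IsLongest cs J wj) {k : Y}
    (hk : Rp cs R.nsys (w0 cs * wj) k) {ψ : ↥(UJ cs h X Set.univ) →* ℂˣ} (hψ : Nd cs h X Set.univ ψ)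
    (he : psiK R hwj hk ψ = ψ.comp (Subgroup.inclusion UJ_le_U)) {z : Y} (hz : z ∈ T)
    (hzJ : ∀ j ∈ J, ∀ u ∈ X (sr j), z * u = u * z) (hk' : Rp cs R.nsys (w0 cs * wj) (k * z)) :
    psiK R hwj hk' ψ = ψ.comp (Subgroup.inclusion UJ_le_U) := by
  have h1 : cjT R (J := J) z hz (ψ.comp (Subgroup.inclusion UJ_le_U)) = ψ.comp (Subgroup.inclusion UJ_le_U) := by
    refine hom_ext fun x hx u hu' hu => ?_
    by_cases hxs : ∃ i, x = sr i
    · obtain ⟨i, rfl⟩ := hxs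
      have hi := sr_mem_of_PosJ hx
      change ψ ⟨z * u * z⁻¹, _⟩ = ψ ⟨u, _⟩
      congr 1
      apply Subtype.ext
      change z * u * z⁻¹ = u
      rw [hzJ i hi u hu, mul_inv_cancel_right]
    · push Not at hxs
      have h2 := hψ.res (J := J)
      rw [h2.triv x hx hxs u hu' hu]
      exact h2.triv x hx hxs (z * u * z⁻¹) (conjT_UJ R hz hu') (conjT_X R hx.1 hz hu)
  ext u
  congr 1
  rw [← h1]
  have h2 := DFunLike.congr_fun he ⟨z * u * z⁻¹, conjT_UJ R hz u.2⟩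
  change ψ ⟨k * z * u * (k * z)⁻¹, _⟩ = (ψ.comp (Subgroup.inclusion UJ_le_U)) ⟨z * u * z⁻¹, _⟩
  rw [← h2]
  change ψ ⟨k * z * u * (k * z)⁻¹, _⟩ = ψ ⟨k * (z * u * z⁻¹) * k⁻¹, _⟩
  congr 1
  apply Subtype.ext
  change k * z * (u : Y) * (k * z)⁻¹ = k * (z * u * z⁻¹) * k⁻¹
  group

theorem eq_one_of_T_of_U [Finite W] {t : Y} (ht : t ∈ T) (hU : t ∈ UJ cs h X Set.univ) : t = 1 := by
  refine eq_one_of_mem_LJ_of_mem_VJ R (J := ∅) (T_le_LJ ht) ?_
  refine RGD.Sup_mono (S := PosJ cs h Set.univ) (S' := NotJ cs h ∅) ?_ hU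
  intro x hx
  obtain ⟨l, hl⟩ : ∃ l, 0 < x l := by
    by_contra hcon
    push Not at hcon
    exact hx.1.ne_zero (funext fun l => le_antisymm (hcon l) (hx.2.1 l))
  exact ⟨hx.1, hx.2.1, l, Set.notMem_empty l, hl⟩

/-- **(GG2)** `∏ |F i| ≤ [Γ, Γ]` -/
theorem gg2 [Finite W] [Fintype Y] {F : I → Type*} [∀ i, Field (F i)] [∀ i, Finite (F i)]
    (D : Adj T X F) {ψ : ↥(UJ cs h X Set.univ) →* ℂˣ} (hψ : Nd cs h X Set.univ ψ) :
    ((∏ i, Nat.card (F i) : ℕ) : ℝ) ≤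
      (classInner (indFun (UJ cs h X Set.univ) fun u : ↥(UJ cs h X Set.univ) => (ψ u : ℂ))
        (indFun (UJ cs h X Set.univ) fun u : ↥(UJ cs h X Set.univ) => (ψ u : ℂ))).re := by
  classical
  have hFt : ∀ i, Fintype (F i) := fun i => Fintype.ofFinite _
  choose wj hwj using fun J : Set I => exists_isLongest cs J
  choose k hk hke using fun J : Set I => exists_cpt R D (hwj J) hψ
  let K : (∀ i, F i) → Set I := fun c => {i | c i = 0}
  let uc : (∀ i, F i) → ∀ i, (F i)ˣ := fun c i => if hc : c i = 0 then 1 else Units.mk0 (c i) hc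
  choose z hz using fun c : ∀ i, F i => D.surjT (uc c)
  have hg : ∀ c, Rp cs R.nsys (w0 cs * wj (K c)) (k (K c) * z c) := by
    intro c
    have := (hk (K c)).mul (rp_of_mem (cs := cs) (hN := R.nsys) (z c).2)
    rwa [mul_one] at this
  have hzK : ∀ c, ∀ j ∈ K c, ∀ u ∈ X (sr j), (z c : Y) * u = u * z c := by
    intro c j hj
    refine D.ker j (z c) ?_
    rw [hz c j]
    exact dif_pos hj
  have hcard : (∏ i, Nat.card (F i)) = Fintype.card (∀ i, F i) := by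
    rw [Fintype.card_pi]
    exact Finset.prod_congr rfl fun i _ => Nat.card_eq_fintype_card
  rw [hcard]
  refine le_classInner_self (UJ cs h X Set.univ) ψ (fun c : ∀ i, F i => k (K c) * z c) (fun c => ?_) (fun c c' hcc => ?_)
  · exact cp_of_psiK R (hwj (K c)) (hg c) (psiK_mul R (hwj (K c)) (hk (K c)) hψ (hke (K c)) (z c).2 (hzK c) (hg c))
  · obtain ⟨a, ha, b, hb, e⟩ := hcc
    have haB : a ∈ RGD.B cs h T X := by rw [← BJ_univ]; exact UJ_le_BJ ha
    have hbB : b ∈ RGD.B cs h T X := by rw [← BJ_univ]; exact UJ_le_BJ hb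
    -- the same element of `W`
    have h1 : w0 cs * wj (K c) = w0 cs * wj (K c') :=
      Cell.unique R (g := k (K c') * z c') ⟨a, haB, _, hg c, b, hbB, e⟩ (cell_of_rp (hg c'))
    have h2 : wj (K c) = wj (K c') := mul_left_cancel h1
    have hKK : K c = K c' := by
      ext i
      constructor
      · intro hi
        by_contra hcon
        have h3 := rep_longest_nonpos (h := h) (hwj (K c)) (sr_mem_PosJ hi) i
        rw [h2, Cfsg.Agent.Tits.RootComb.rep_apply_of_mem cs h (hwj (K c')).1 (sr i) hcon, sr_self] at h3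
        exact absurd h3 (by change ¬ (1 : ℤ) ≤ 0; decide)
      · intro hi
        by_contra hcon
        have h3 := rep_longest_nonpos (h := h) (hwj (K c')) (sr_mem_PosJ hi) i
        rw [← h2, Cfsg.Agent.Tits.RootComb.rep_apply_of_mem cs h (hwj (K c)).1 (sr i) hcon, sr_self] at h3
        exact absurd h3 (by change ¬ (1 : ℤ) ≤ 0; decide)
    -- the same element of `T`
    have hzz : (z c : Y) = z c' := by
      rw [← hKK] at e
      set g := k (K c) * z c with hgdef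
      have h3 : g⁻¹ * a * g = ((z c : Y)⁻¹ * z c') * b⁻¹ := by
        have h4 : k (K c) * z c' * b⁻¹ = a * g := by rw [e]; group
        have h5 : k (K c) = g * (z c : Y)⁻¹ := by rw [hgdef]; group
        rw [h5] at h4
        calc g⁻¹ * a * g = g⁻¹ * (a * g) := by group
          _ = g⁻¹ * (g * (z c : Y)⁻¹ * z c' * b⁻¹) := by rw [h4]
          _ = _ := by group
      have h4 : g⁻¹ * a * g ∈ PJ cs h T X (K c) := by
        rw [h3]
        exact B_le_PJ (mul_mem (RGD.T_le_B (mul_mem (inv_mem (z c).2) (z c').2)) (inv_mem hbB))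
      have h5 := UJ_le_U (conj_mem_UJ R (hwj (K c)) (hg c) ha h4)
      have h6 : (z c : Y)⁻¹ * z c' ∈ UJ cs h X Set.univ := by
        have h7 : (z c : Y)⁻¹ * z c' = (g⁻¹ * a * g) * b := by rw [h3]; group
        rw [h7]
        exact mul_mem h5 hb
      have h7 := eq_one_of_T_of_U R (mul_mem (inv_mem (z c).2) (z c').2) h6
      rwa [inv_mul_eq_one] at h7
    have hzz' : z c = z c' := Subtype.ext hzz
    funext i
    have h3 : uc c i = uc c' i := by rw [← hz c i, ← hz c' i, hzz']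
    by_cases hi : c i = 0
    · have h4 : i ∈ K c' := by rw [← hKK]; exact hi
      have h5 : c' i = 0 := h4
      rw [hi, h5]
    · have h4 : c' i ≠ 0 := fun h5 => hi (by
        have h6 : i ∈ K c := by rw [hKK]; exact h5
        exact h6)
      simp only [uc] at h3
      rw [dif_neg hi, dif_neg h4] at h3
      exact congrArg Units.val h3

end Cfsg.Agent.H148.GG
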