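import Cfsg.Agent.H148.GG.Anti

/-!
# S4884, helper148: the Gelfand-Graev characters of the Levi subgroups are multiplicity free (defining characteristic two)

* `Fx` : an anti-automorphism of `Y` preserving `(U_J, ψ)`;
* `mult_of_fix` : multiplicity one if it fixes the compatible elements of `N`;
* `Anti` : an anti-automorphism `φ` of order two with `φ (X z) = X (-z)`, `φ = 1` on `T`;
* `mult_one` : multiplicity one if `T` has odd order.
-/

set_option autoImplicit false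
set_option linter.unusedSectionVars false

open scoped ComplexConjugate
open Cfsg

namespace Cfsg.Agent.H148.GG

open CoxeterSystem Cfsg.Agent.ChevalleyStructure.CoxeterGeom Cfsg.Agent.Tits.Roots Cfsg.Agent.Tits.Core
  Cfsg.Agent.Tits.Exchange Cfsg.Agent.Nodes.Reps Cfsg.Agent.Nodes.BNOf Cfsg.Agent.Nodes.StabComb
  Cfsg.Agent.Nodes.Bruhat Cfsg.Agent.Nodes.OppDec Cfsg.Agent.Nodes.LeviDec Cfsg.Agent.H53.HC
  Cfsg.Agent.Characters.Core

variable {I W Y : Type*} [Fintype I] [DecidableEq I] [Group W] [Group Y] {M : CoxeterMatrix I}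
  {cs : CoxeterSystem M W} {A : I → I → ℤ} {h : IsCartan M A} {p : ℕ} {T : Subgroup Y} {n : I → Y}
  {X : (I → ℤ) → Subgroup Y}

/-- an anti-automorphism preserving `(U_J, ψ)` and `L_J` -/
structure Fx (cs : CoxeterSystem M W) (h : IsCartan M A) (T : Subgroup Y) (X : (I → ℤ) → Subgroup Y) (J : Set I)
    (ψ : ↥(UJ cs h X J) →* ℂˣ) (f : Y → Y) : Prop where
  mul : ∀ x y, f (x * y) = f y * f x
  inj : Function.Injective f
  memU : ∀ u ∈ UJ cs h X J, f u ∈ UJ cs h X J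
  memL : ∀ u ∈ LJ cs h T X J, f u ∈ LJ cs h T X J
  psi : ∀ (u : Y) (hu : u ∈ UJ cs h X J) (hu' : f u ∈ UJ cs h X J), ψ ⟨f u, hu'⟩ = ψ ⟨u, hu⟩

/-- compatible elements -/
def Cpt (cs : CoxeterSystem M W) (h : IsCartan M A) (X : (I → ℤ) → Subgroup Y) (J : Set I)
    (ψ : ↥(UJ cs h X J) →* ℂˣ) (g : Y) : Prop :=
  ∀ (u : Y) (hu : u ∈ UJ cs h X J) (hu' : g⁻¹ * u * g ∈ UJ cs h X J), ψ ⟨u, hu⟩ = ψ ⟨g⁻¹ * u * g, hu'⟩

theorem UJ_le_LJ {J : Set I} : UJ cs h X J ≤ LJ cs h T X J := le_trans UJ_le_BJ BJ_le_LJ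

variable (R : RGD cs h p T n X)

include R

theorem mem_BJ {J : Set I} {x : Y} (hx : x ∈ BJ cs h T X J) : ∃ u ∈ UJ cs h X J, ∃ t ∈ T, x = u * t := by
  have hT : T ≤ Subgroup.normalizer (UJ cs h X J : Set Y) := R.T_le_normalizer fun _ hx => hx.1
  have h1 : x ∈ ((UJ cs h X J ⊔ T : Subgroup Y) : Set Y) := by rw [sup_comm]; exact hx
  rw [Subgroup.coe_mul_of_right_le_normalizer_left _ _ hT, Set.mem_mul] at h1
  obtain ⟨y, hy, t, ht, rfl⟩ := h1
  exact ⟨y, hy, t, ht, rfl⟩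

theorem mem_BJ_left {J : Set I} {x : Y} (hx : x ∈ BJ cs h T X J) : ∃ t ∈ T, ∃ u ∈ UJ cs h X J, x = t * u := by
  obtain ⟨u, hu, t, ht, e⟩ := mem_BJ R (inv_mem hx)
  refine ⟨t⁻¹, inv_mem ht, u⁻¹, inv_mem hu, ?_⟩
  rw [← mul_inv_rev, ← e, inv_inv]

/-- `L_J = U_J N_J U_J` -/
theorem exists_UNU [Finite W] {J : Set I} {g : Y} (hg : g ∈ LJ cs h T X J) :
    ∃ w ∈ WJ cs J, ∃ u₁ ∈ UJ cs h X J, ∃ m, Rp cs R.nsys w m ∧ ∃ u₂ ∈ UJ cs h X J, g = u₁ * m * u₂ := by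
  obtain ⟨w, hw, b₁, hb₁, k, hk, b₂, hb₂, e⟩ := exists_cellJ R hg
  obtain ⟨u₁, hu₁, t₁, ht₁, e1⟩ := mem_BJ R hb₁
  obtain ⟨t₂, ht₂, u₂, hu₂, e2⟩ := mem_BJ_left R hb₂
  refine ⟨w, hw, u₁, hu₁, t₁ * k * t₂, ?_, u₂, hu₂, by rw [e, e1, e2]; group⟩
  have h1 : Rp cs R.nsys (1 * w * 1) (t₁ * k * t₂) := ((rp_of_mem ht₁).mul hk).mul (rp_of_mem ht₂)
  rwa [one_mul, mul_one] at h1

/-- compatible elements of `N` lie over elements mapping simple roots to simple roots or to negative roots -/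
theorem Cpt.comp {J : Set I} {ψ : ↥(UJ cs h X J) →* ℂˣ} (hψ : Nd cs h X J ψ) {w : W} (hw : w ∈ WJ cs J) {m : Y}
    (hm : Rp cs R.nsys w m) (hc : Cpt cs h X J ψ m) : Comp cs h J w := by
  refine ⟨hw, fun i hi => ?_⟩
  rcases ((isRoot_sr cs h i).act w⁻¹).pos_or_neg with h0 | h0
  · right
    have hx : rep cs h w⁻¹ (sr i) ∈ PosJ cs h J :=
      ⟨(isRoot_sr cs h i).act _, h0, (RootsJ.act (inv_mem hw) (PosJ_subset J (sr_mem_PosJ hi))).2⟩
    obtain ⟨u, hu', hu, hne⟩ := hψ.ne i hi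
    have hv : m⁻¹ * u * m ∈ X (rep cs h w⁻¹ (sr i)) := R.conj_mem' hm (isRoot_sr cs h i) hu
    by_contra hcon
    have h1 := hψ.triv _ hx (fun k hk => hcon ⟨k, by rw [hk] at hx; exact sr_mem_of_PosJ hx, hk⟩)
      _ (X_le_UJ hx hv) hv
    rw [hc u hu' (X_le_UJ hx hv), h1] at hne
    exact hne rfl
  · exact Or.inl h0

/-- **Multiplicity one from an anti-automorphism which fixes the compatible elements.** -/
theorem mult_of_fix [Finite W] [Fintype Y] {J : Set I} [Fintype ↥(LJ cs h T X J)] [Fintype ↥(UJ cs h X J)]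
    {ψ : ↥(UJ cs h X J) →* ℂˣ} {f : Y → Y} (hf : Fx cs h T X J ψ f)
    (hfix : ∀ w ∈ WJ cs J, ∀ m, Rp cs R.nsys w m → Cpt cs h X J ψ m → f m = m)
    {χ : ↥(LJ cs h T X J) → ℂ} (hχ : IsIrrCharacter ↥(LJ cs h T X J) χ) :
    classInner (χ ∘ Subgroup.inclusion (UJ_le_LJ (cs := cs) (h := h) (T := T) (X := X) (J := J)))
        (fun u : ↥(UJ cs h X J) => (ψ u : ℂ)) = 0 ∨
      classInner (χ ∘ Subgroup.inclusion (UJ_le_LJ (cs := cs) (h := h) (T := T) (X := X) (J := J)))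
        (fun u : ↥(UJ cs h X J) => (ψ u : ℂ)) = 1 := by
  classical
  let σ0 : ↥(UJ cs h X J) → ↥(UJ cs h X J) := fun u => ⟨f u, hf.memU u u.2⟩
  have hσinj : Function.Injective σ0 := fun a b hab => Subtype.ext (hf.inj (congrArg Subtype.val hab))
  let σ : ↥(UJ cs h X J) ≃ ↥(UJ cs h X J) := Equiv.ofBijective σ0 (Finite.injective_iff_bijective.1 hσinj)
  refine H466.T3.Gelfand.mult_le_one (G := ↥(LJ cs h T X J)) (A := ↥(UJ cs h X J))
    (Subgroup.inclusion (UJ_le_LJ (cs := cs) (h := h) (T := T) (X := X) (J := J))) ψ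
    (fun g => ⟨f g, hf.memL g g.2⟩) σ ?_ ?_ ?_ ?_ hχ
  · intro x y
    exact Subtype.ext (hf.mul x y)
  · intro a
    rfl
  · intro a
    exact hf.psi a a.2 (hf.memU a a.2)
  · rintro ⟨g, hg⟩
    obtain ⟨w, hw, u₁, hu₁, m, hm, u₂, hu₂, e⟩ := exists_UNU R hg
    by_cases hc : Cpt cs h X J ψ m
    · left
      have hfm := hfix w hw m hm hc
      refine ⟨⟨f u₂ * u₁⁻¹, mul_mem (hf.memU _ hu₂) (inv_mem hu₁)⟩, ⟨u₂⁻¹ * f u₁, mul_mem (inv_mem hu₂) (hf.memU _ hu₁)⟩,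
        ?_, ?_⟩
      · apply Subtype.ext
        change f g = (f u₂ * u₁⁻¹) * g * (u₂⁻¹ * f u₁)
        rw [e, hf.mul, hf.mul, hfm]
        group
      · have e1 : (⟨f u₂ * u₁⁻¹, mul_mem (hf.memU _ hu₂) (inv_mem hu₁)⟩ : ↥(UJ cs h X J)) =
            ⟨f u₂, hf.memU _ hu₂⟩ * (⟨u₁, hu₁⟩)⁻¹ := rfl
        have e2 : (⟨u₂⁻¹ * f u₁, mul_mem (inv_mem hu₂) (hf.memU _ hu₁)⟩ : ↥(UJ cs h X J)) =
            (⟨u₂, hu₂⟩)⁻¹ * ⟨f u₁, hf.memU _ hu₁⟩ := rfl
        rw [e1, e2, map_mul, map_mul, map_inv, map_inv, hf.psi u₂ hu₂, hf.psi u₁ hu₁, mul_mul_mul_comm, mul_inv_cancel,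
          inv_mul_cancel, one_mul]
    · right
      unfold Cpt at hc
      push Not at hc
      obtain ⟨u, hu, hu', hne⟩ := hc
      refine ⟨⟨u₁ * u * u₁⁻¹, mul_mem (mul_mem hu₁ hu) (inv_mem hu₁)⟩,
        ⟨u₂⁻¹ * (m⁻¹ * u * m) * u₂, mul_mem (mul_mem (inv_mem hu₂) hu') hu₂⟩, ?_, ?_⟩
      · apply Subtype.ext
        change (u₁ * u * u₁⁻¹) * g = g * (u₂⁻¹ * (m⁻¹ * u * m) * u₂)
        rw [e]
        group
      · have e1 : (⟨u₁ * u * u₁⁻¹, mul_mem (mul_mem hu₁ hu) (inv_mem hu₁)⟩ : ↥(UJ cs h X J)) =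
            ⟨u₁, hu₁⟩ * ⟨u, hu⟩ * (⟨u₁, hu₁⟩)⁻¹ := rfl
        have e2 : (⟨u₂⁻¹ * (m⁻¹ * u * m) * u₂, mul_mem (mul_mem (inv_mem hu₂) hu') hu₂⟩ : ↥(UJ cs h X J)) =
            (⟨u₂, hu₂⟩)⁻¹ * ⟨m⁻¹ * u * m, hu'⟩ * ⟨u₂, hu₂⟩ := rfl
        rw [e1, e2, map_mul, map_mul, map_mul, map_mul, map_inv, map_inv]
        intro h1
        apply hne
        rw [mul_comm (ψ ⟨u₁, hu₁⟩), mul_assoc, mul_inv_cancel, mul_one, mul_comm (ψ ⟨u₂, hu₂⟩)⁻¹, mul_assoc,
          inv_mul_cancel, mul_one] at h1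
        exact h1

/-- an anti-automorphism of order two with `φ (X z) = X (-z)`, `φ = 1` on `T` -/
structure Anti (φ : Y → Y) : Prop where
  mul : ∀ x y, φ (x * y) = φ y * φ x
  sq : ∀ x, φ (φ x) = x
  tor : ∀ t ∈ T, φ t = t
  root : ∀ x, IsRoot cs h x → ∀ u ∈ X x, φ u ∈ X (-x)
  rp : ∀ i, Rp cs R.nsys (cs.simple i) (φ (n i))

namespace Anti

variable {R}
variable {φ : Y → Y} (hφ : Anti R φ)

include hφ

theorem one : φ 1 = 1 := hφ.tor 1 (one_mem T)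

theorem inv (x : Y) : φ x⁻¹ = (φ x)⁻¹ := by
  rw [eq_inv_iff_mul_eq_one, ← hφ.mul, mul_inv_cancel, hφ.one]

theorem inj : Function.Injective φ := fun x y hxy => by rw [← hφ.sq x, hxy, hφ.sq]

theorem comm (s : Y) (hs : s ∈ T) (t : Y) (ht : t ∈ T) : s * t = t * s := by
  have := hφ.mul s t
  rw [hφ.tor _ (mul_mem hs ht), hφ.tor _ hs, hφ.tor _ ht] at this
  exact this

/-- representatives -/
theorem rp_inv {w : W} {g : Y} (hg : Rp cs R.nsys w g) : Rp cs R.nsys w⁻¹ (φ g) := by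
  obtain ⟨ω, rfl⟩ := cs.wordProd_surjective w
  induction ω generalizing g with
  | nil =>
    rw [wordProd_nil] at hg ⊢
    rw [inv_one, hφ.tor _ hg.mem_of_one]
    exact hg
  | cons i ω ih =>
    rw [wordProd_cons] at hg ⊢
    have h1 : Rp cs R.nsys (cs.wordProd ω) ((n i)⁻¹ * g) := by
      have := (rp_simple cs R.nsys i).inv.mul hg
      rwa [inv_mul_cancel_left] at this
    have h2 := (ih h1).mul (hφ.rp i)
    have h3 : φ ((n i)⁻¹ * g) * φ (n i) = φ g := by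
      rw [← hφ.mul]
      congr 1
      group
    rw [h3] at h2
    rwa [mul_inv_rev, cs.inv_simple]

end Anti

/-- the twisted anti-automorphism -/
def fd (φ : Y → Y) (d : Y) (x : Y) : Y := d * φ x * d⁻¹

section Main

variable [Finite W]

variable {R}
variable {φ : Y → Y} (hφ : Anti R φ) {J : Set I} {wj : W} (hwj : IsLongest cs J wj) {d : Y} (hd : Rp cs R.nsys wj d)

include hφ

theorem fd_mul (d x y : Y) : fd φ d (x * y) = fd φ d y * fd φ d x := by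
  unfold fd
  rw [hφ.mul]
  group

theorem fd_inj (d : Y) : Function.Injective (fd φ d) := by
  intro x y hxy
  unfold fd at hxy
  exact hφ.inj (mul_left_cancel (mul_right_cancel hxy))

theorem fd_inv (d x : Y) : fd φ d x⁻¹ = (fd φ d x)⁻¹ := by
  unfold fd
  rw [hφ.inv]
  group

include hd

theorem fd_root {x : I → ℤ} (hx : IsRoot cs h x) {u : Y} (hu : u ∈ X x) : fd φ d u ∈ X (-rep cs h wj x) := by
  have h1 := R.conj_mem hd hx.neg (hφ.root x hx u hu)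
  rw [map_neg] at h1
  exact h1

theorem fd_rp {w : W} {g : Y} (hg : Rp cs R.nsys w g) : Rp cs R.nsys (wj * w⁻¹ * wj⁻¹) (fd φ d g) :=
  (hd.mul (hφ.rp_inv hg)).mul hd.inv

theorem fd_T {t : Y} (ht : t ∈ T) : fd φ d t ∈ T := by
  have h1 := fd_rp hφ hd (rp_of_mem (cs := cs) (hN := R.nsys) ht)
  rw [inv_one, mul_one, mul_inv_cancel] at h1
  exact h1.mem_of_one

include hwj

theorem neg_mem_PosJ {x : I → ℤ} (hx : x ∈ PosJ cs h J) : -rep cs h wj x ∈ PosJ cs h J := by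
  refine ⟨(hx.1.act _).neg, neg_nonneg.2 (rep_longest_nonpos hwj hx), fun k hk => ?_⟩
  rw [Pi.neg_apply, Cfsg.Agent.Tits.RootComb.rep_apply_of_mem cs h hwj.1 x hk, hx.2.2 k hk, neg_zero]

theorem fd_UJ {u : Y} (hu : u ∈ UJ cs h X J) : fd φ d u ∈ UJ cs h X J := by
  let K : Subgroup Y :=
    { carrier := {u | fd φ d u ∈ UJ cs h X J}
      mul_mem' := by
        intro a b ha hb
        change fd φ d (a * b) ∈ UJ cs h X J
        rw [fd_mul hφ]
        exact mul_mem hb ha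
      one_mem' := by
        change fd φ d 1 ∈ UJ cs h X J
        unfold fd
        rw [hφ.one, mul_one, mul_inv_cancel]
        exact one_mem _
      inv_mem' := by
        intro a ha
        change fd φ d a⁻¹ ∈ UJ cs h X J
        rw [fd_inv hφ]
        exact inv_mem ha }
  have hK : UJ cs h X J ≤ K := RGD.Sup_le fun x hx u hu =>
    X_le_UJ (neg_mem_PosJ hφ hwj hd hx) (fd_root hφ hd hx.1 hu)
  exact hK hu

theorem fd_LJ {u : Y} (hu : u ∈ LJ cs h T X J) : fd φ d u ∈ LJ cs h T X J := by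
  let K : Subgroup Y :=
    { carrier := {u | fd φ d u ∈ LJ cs h T X J}
      mul_mem' := by
        intro a b ha hb
        change fd φ d (a * b) ∈ LJ cs h T X J
        rw [fd_mul hφ]
        exact mul_mem hb ha
      one_mem' := by
        change fd φ d 1 ∈ LJ cs h T X J
        unfold fd
        rw [hφ.one, mul_one, mul_inv_cancel]
        exact one_mem _
      inv_mem' := by
        intro a ha
        change fd φ d a⁻¹ ∈ LJ cs h T X J
        rw [fd_inv hφ]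
        exact inv_mem ha }
  have hK : LJ cs h T X J ≤ K := by
    refine sup_le (fun t ht => T_le_LJ (fd_T hφ hd ht)) (RGD.Sup_le fun x hx u hu => ?_)
    exact X_le_LJ (RootsJ.neg (RootsJ.act hwj.1 hx)) (fd_root hφ hd hx.1 hu)
  exact hK hu

/-- `ψ ∘ f` -/
def psiF (ψ : ↥(UJ cs h X J) →* ℂˣ) : ↥(UJ cs h X J) →* ℂˣ where
  toFun u := ψ ⟨fd φ d u, fd_UJ hφ hwj hd u.2⟩
  map_one' := by
    have e : (⟨fd φ d ((1 : ↥(UJ cs h X J)) : Y), fd_UJ hφ hwj hd (1 : ↥(UJ cs h X J)).2⟩ : ↥(UJ cs h X J)) = 1 := by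
      apply Subtype.ext
      change fd φ d 1 = 1
      unfold fd
      rw [hφ.one, mul_one, mul_inv_cancel]
    rw [e, map_one]
  map_mul' u v := by
    rw [mul_comm (ψ ⟨fd φ d (u : Y), _⟩), ← map_mul]
    congr 1
    apply Subtype.ext
    exact fd_mul hφ d u v

theorem psiF_nd {ψ : ↥(UJ cs h X J) →* ℂˣ} (hψ : Nd cs h X J ψ) : Nd cs h X J (psiF hφ hwj hd ψ) := by
  have hww : wj * wj = 1 := IsLongest.mul_self hwj
  refine ⟨fun x hx hxs u hu' hu => ?_, fun i hi => ?_⟩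
  · refine hψ.triv _ (neg_mem_PosJ hφ hwj hd hx) (fun i hi => ?_) _ (fd_UJ hφ hwj hd hu') (fd_root hφ hd hx.1 hu)
    have hiJ : i ∈ J := by
      have h1 := neg_mem_PosJ hφ hwj hd hx
      rw [hi] at h1
      exact sr_mem_of_PosJ h1
    obtain ⟨k, -, hk⟩ := longest_simple (h := h) hwj hiJ
    apply hxs k
    have h2 : x = rep cs h wj (rep cs h wj x) := by
      rw [← rep_mul_apply, hww, map_one, Module.End.one_apply]
    have h3 : rep cs h wj x = -sr i := by rw [← hi, neg_neg]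
    rw [h2, h3, map_neg, hk, neg_neg]
  · obtain ⟨k, hk, e⟩ := longest_simple (h := h) hwj hi
    obtain ⟨v, hv', hv, hne⟩ := hψ.ne k hk
    -- the preimage of `v`
    have h1 : d⁻¹ * v * d ∈ X (-sr i) := by
      have h2 := R.conj_mem' hd (isRoot_sr cs h k) hv
      have h3 : rep cs h wj⁻¹ (sr k) = -sr i := by
        have h4 : (sr k : I → ℤ) = -rep cs h wj (sr i) := by rw [e, neg_neg]
        rw [h4, map_neg, rep_inv_apply]
      rwa [h3] at h2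
    have h5 : φ (d⁻¹ * v * d) ∈ X (sr i) := by
      have := hφ.root _ (isRoot_sr cs h i).neg _ h1
      rwa [neg_neg] at this
    have h6 : fd φ d (φ (d⁻¹ * v * d)) = v := by
      unfold fd
      rw [hφ.sq]
      group
    have h7 : φ (d⁻¹ * v * d) ∈ UJ cs h X J := X_le_UJ (sr_mem_PosJ hi) h5
    refine ⟨_, h7, h5, ?_⟩
    intro h8
    apply hne
    rw [← h8]
    change ψ ⟨v, hv'⟩ = ψ ⟨fd φ d (φ (d⁻¹ * v * d)), _⟩
    congr 1
    exact Subtype.ext h6.symm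

/-- **the twisted anti-automorphism can be chosen to preserve `ψ`** -/
theorem exists_fx {F : I → Type*} [∀ i, Field (F i)] [∀ i, Finite (F i)] (D : Adj T X F)
    {ψ : ↥(UJ cs h X J) →* ℂˣ} (hψ : Nd cs h X J ψ) : ∃ d', Rp cs R.nsys wj d' ∧ Fx cs h T X J ψ (fd φ d') := by
  obtain ⟨t, ht, hc⟩ := (psiF_nd hφ hwj hd hψ).exists_conj R D hψ
  set s := (fd φ d t)⁻¹ with hs
  have hsT : s ∈ T := inv_mem (fd_T hφ hd ht)
  have hd' : Rp cs R.nsys wj (s * d) := by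
    have := (rp_of_mem (cs := cs) (hN := R.nsys) hsT).mul hd
    rwa [one_mul] at this
  have key : ∀ u, fd φ (s * d) u = fd φ d (t * u * t⁻¹) := by
    intro u
    rw [fd_mul hφ, fd_mul hφ, fd_inv hφ, ← hs]
    have e : fd φ d t = s⁻¹ := by rw [hs, inv_inv]
    rw [e]
    unfold fd
    group
  refine ⟨s * d, hd', ⟨fd_mul hφ _, fd_inj hφ _, fun u hu => fd_UJ hφ hwj hd' hu, fun u hu => fd_LJ hφ hwj hd' hu, ?_⟩⟩
  intro u hu hu'
  rw [hc u hu]
  change ψ ⟨fd φ (s * d) u, hu'⟩ = ψ ⟨fd φ d (t * u * t⁻¹), _⟩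
  congr 1
  exact Subtype.ext (key u)

/-- the compatible elements are fixed if `T` has odd order -/
theorem fix_of_odd {F : I → Type*} [∀ i, Field (F i)] [∀ i, Finite (F i)] (D : Adj T X F)
    (hodd : ∀ z ∈ T, z * z = 1 → z = 1)
    {ψ : ↥(UJ cs h X J) →* ℂˣ} (hψ : Nd cs h X J ψ) (hf : Fx cs h T X J ψ (fd φ d)) {w : W} (hw : w ∈ WJ cs J)
    {m : Y} (hm : Rp cs R.nsys w m) (hc : Cpt cs h X J ψ m) : fd φ d m = m := by
  have hww : wj * wj = 1 := IsLongest.mul_self hwj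
  have hwi : wj⁻¹ = wj := IsLongest.inv_eq hwj
  have hsrg : Srg T X := D.srg fun i t u ht hu => conjT_X R (isRoot_sr cs h i) ht hu
  have hTc := hφ.comm
  -- an element of the torus fixing `ψ` on `X (sr i)` centralises it
  have hcen : ∀ i ∈ J, ∀ z ∈ T, (∀ (u : Y) (hu : u ∈ X (sr i)) (hu1 : u ∈ UJ cs h X J)
      (hu2 : z * u * z⁻¹ ∈ UJ cs h X J), ψ ⟨z * u * z⁻¹, hu2⟩ = ψ ⟨u, hu1⟩) → ∀ u ∈ X (sr i), z * u = u * z := by
    intro i hi z hz hzf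
    let θ : ↥(X (sr i)) →* ℂˣ := ψ.comp (Subgroup.inclusion (X_le_UJ (sr_mem_PosJ hi)))
    refine hsrg i θ ?_ z hz ?_
    · intro h1
      obtain ⟨u, hu', hu, hne⟩ := hψ.ne i hi
      exact hne (DFunLike.congr_fun h1 (⟨u, hu⟩ : ↥(X (sr i))))
    · intro u hu hu'
      exact hzf u hu _ _
  -- the square of `f`
  set c := d * (φ d)⁻¹ with hcdef
  have hcT : c ∈ T := by
    have h1 := hd.mul (hφ.rp_inv hd).inv
    rw [inv_inv, hww] at h1
    exact h1.mem_of_one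
  have hff : ∀ x, fd φ d (fd φ d x) = c * x * c⁻¹ := by
    intro x
    unfold fd
    rw [hφ.mul, hφ.mul, hφ.sq, hφ.inv, hcdef]
    group
  have hcJ : ∀ i ∈ J, ∀ u ∈ X (sr i), c * u = u * c := by
    intro i hi
    refine hcen i hi c hcT fun u hu hu1 hu2 => ?_
    have h1 := hf.psi u hu1 (hf.memU _ hu1)
    have h2 := hf.psi (fd φ d u) (hf.memU _ hu1) (hf.memU _ (hf.memU _ hu1))
    rw [h1] at h2
    rw [← h2]
    congr 1
    exact Subtype.ext (hff u).symm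
  have hff1 : ∀ i ∈ J, ∀ u ∈ X (sr i), fd φ d (fd φ d u) = u := by
    intro i hi u hu
    rw [hff, hcJ i hi u hu, mul_inv_cancel_right]
  have hffm : fd φ d (fd φ d m) = m := by
    rw [hff, comm_rp R hcT hTc hcJ hw hm, mul_inv_cancel_right]
  -- the structure of `w`
  obtain ⟨K, v, hvK, hKJ, hvv, hwv, hKs, -, hvn⟩ := (hc.comp R hψ hw hm).dec hwj
  have hvi : v⁻¹ = v := inv_eq_of_mul_eq_one_left hvv
  have hwi' : wj * w⁻¹ * wj⁻¹ = w := by
    rw [hwv, mul_inv_rev, hvi, hwi, mul_assoc, mul_assoc, hww, mul_one]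
  have hfm := fd_rp hφ hd hm
  rw [hwi'] at hfm
  set z := m⁻¹ * fd φ d m with hzdef
  have hzT : z ∈ T := hm.unique hfm
  have hfz : fd φ d m = m * z := by rw [hzdef]; group
  -- `z` centralises the simple root groups of `K`
  have hzK : ∀ k ∈ K, ∀ u ∈ X (sr k), z * u = u * z := by
    intro k' hk'
    refine hcen k' (hKJ hk') z hzT fun x hx hx1 hx2 => ?_
    obtain ⟨k, hk, e⟩ := hvn k' hk'
    -- `y = m⁻¹ f(x) m`
    have hfx : fd φ d x ∈ X (-rep cs h wj (sr k')) := fd_root hφ hd (isRoot_sr cs h k') hx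
    have hfxU : fd φ d x ∈ UJ cs h X J := hf.memU _ hx1
    have hy : m⁻¹ * fd φ d x * m ∈ X (sr k) := by
      have h1 := R.conj_mem' hm ((isRoot_sr cs h k').act wj).neg hfx
      have h2 : rep cs h w⁻¹ (-rep cs h wj (sr k')) = sr k := by
        rw [map_neg, ← rep_mul_apply, hwv, mul_inv_rev, hwi, hvi, mul_assoc, hww, mul_one, e, neg_neg]
      rwa [h2] at h1
    have hyU : m⁻¹ * fd φ d x * m ∈ UJ cs h X J := X_le_UJ (sr_mem_PosJ (hKJ hk)) hy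
    have e1 : ψ ⟨fd φ d x, hfxU⟩ = ψ ⟨m⁻¹ * fd φ d x * m, hyU⟩ := hc _ hfxU hyU
    have e2 : ψ ⟨fd φ d x, hfxU⟩ = ψ ⟨x, hx1⟩ := hf.psi x hx1 hfxU
    have e3 : ψ ⟨fd φ d (m⁻¹ * fd φ d x * m), hf.memU _ hyU⟩ = ψ ⟨m⁻¹ * fd φ d x * m, hyU⟩ := hf.psi _ hyU _
    have e4 : fd φ d (m⁻¹ * fd φ d x * m) = m * (z * x * z⁻¹) * m⁻¹ := by
      rw [fd_mul hφ, fd_mul hφ, fd_inv hφ, hff1 k' (hKJ hk') x hx, hfz]
      group
    obtain ⟨i, hi, ei⟩ := hKs k' hk'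
    have hzx : z * x * z⁻¹ ∈ X (sr k') := conjT_X R (isRoot_sr cs h k') hzT hx
    have hu : m * (z * x * z⁻¹) * m⁻¹ ∈ UJ cs h X J := by
      have h1 := R.conj_mem hm (isRoot_sr cs h k') hzx
      rw [ei] at h1
      exact X_le_UJ (sr_mem_PosJ hi) h1
    have hu2 : m⁻¹ * (m * (z * x * z⁻¹) * m⁻¹) * m ∈ UJ cs h X J := by
      have e5 : m⁻¹ * (m * (z * x * z⁻¹) * m⁻¹) * m = z * x * z⁻¹ := by group
      rw [e5]
      exact hx2
    have e6 := hc _ hu hu2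
    have e7 : ψ ⟨m⁻¹ * (m * (z * x * z⁻¹) * m⁻¹) * m, hu2⟩ = ψ ⟨z * x * z⁻¹, hx2⟩ := by
      congr 1
      apply Subtype.ext
      change m⁻¹ * (m * (z * x * z⁻¹) * m⁻¹) * m = z * x * z⁻¹
      group
    have e8 : ψ ⟨fd φ d (m⁻¹ * fd φ d x * m), hf.memU _ hyU⟩ = ψ ⟨m * (z * x * z⁻¹) * m⁻¹, hu⟩ := by
      congr 1
      exact Subtype.ext e4
    rw [← e7, ← e6, ← e8, e3, ← e1, e2]
  -- `z ^ 2 = 1`
  have hdm : Rp cs R.nsys v (d⁻¹ * m) := by
    have h1 := hd.inv.mul hm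
    rw [hwi, hwv, ← mul_assoc, hww, one_mul] at h1
    exact h1
  have hcomm := comm_rp R hzT hTc hzK hvK hdm
  have h1 : m = d * z * d⁻¹ * (m * z) := by
    have h2 := hffm
    rw [hfz, fd_mul hφ, hfz] at h2
    have h3 : fd φ d z = d * z * d⁻¹ := by
      unfold fd
      rw [hφ.tor z hzT]
    rw [h3] at h2
    exact h2.symm
  have h2 : d⁻¹ * m = z * (d⁻¹ * m) * z := by
    conv_lhs => rw [h1]
    group
  rw [hcomm, mul_assoc, eq_comm, mul_eq_left] at h2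
  rw [hfz, hodd z hzT h2, mul_one]

/-- **Multiplicity one** (defining characteristic two). -/
theorem mult_one_of_odd [Fintype Y] {F : I → Type*} [∀ i, Field (F i)] [∀ i, Finite (F i)] (D : Adj T X F)
    (hodd : ∀ z ∈ T, z * z = 1 → z = 1) [Fintype ↥(LJ cs h T X J)] [Fintype ↥(UJ cs h X J)]
    {ψ : ↥(UJ cs h X J) →* ℂˣ} (hψ : Nd cs h X J ψ) {χ : ↥(LJ cs h T X J) → ℂ}
    (hχ : IsIrrCharacter ↥(LJ cs h T X J) χ) :
    classInner (χ ∘ Subgroup.inclusion (UJ_le_LJ (cs := cs) (h := h) (T := T) (X := X) (J := J)))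
        (fun u : ↥(UJ cs h X J) => (ψ u : ℂ)) = 0 ∨
      classInner (χ ∘ Subgroup.inclusion (UJ_le_LJ (cs := cs) (h := h) (T := T) (X := X) (J := J)))
        (fun u : ↥(UJ cs h X J) => (ψ u : ℂ)) = 1 := by
  obtain ⟨d', hd', hf⟩ := exists_fx hφ hwj hd D hψ
  exact mult_of_fix R hf (fun w hw m hm hc => fix_of_odd hφ hwj hd' D hodd hψ hf hw hm hc) hχ

end Main

end Cfsg.Agent.H148.GG
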